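import Cfsg.Agent.Chev.FeitHigman

/-! No thick finite generalized octagon with a (B,N)-pair has equal parameters. -/

set_option autoImplicit false

namespace Cfsg.Agent.SU

open Cfsg.Agent.Chev Cfsg.Agent.Chev.FH Cfsg.BNPair

theorem ncell_ne_of_eight {G : Type*} [Group G] [Fintype G] (P : BNPair G) (e : P.S ≃ Fin 2)
    (h8 : orderOf (P.simple (e.symm 0) * P.simple (e.symm 1)) = 8) :
    P.ncell (P.simple (e.symm 0)) ≠ P.ncell (P.simple (e.symm 1)) := by
  classical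
  intro heq
  have := Fintype.ofFinite P.W
  have hs : ∀ i, (P.cs.reindex e).simple i = P.simple (e.symm i) := fun i => P.cs_simple _
  have hd : ∀ w i, (P.cs.reindex e).IsLeftDescent w i ↔ P.cs.IsLeftDescent w (e.symm i) :=
    fun w i => by simp only [CoxeterSystem.IsLeftDescent, length_reindex]; rfl
  obtain ⟨q, hq, hq'⟩ : ∃ q : ℚ, 1 < q ∧ ∀ i, P.cq (P.simple (e.symm i)) = q :=
    ⟨P.ncell (P.simple (e.symm 0)) / Nat.card P.B, (one_lt_div (by
      exact_mod_cast Nat.card_pos)).2 (by exact_mod_cast card_lt_ncell _), fun i => by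
        fin_cases i <;> simp [cq, heq]⟩
  have hv : ∀ i, ![(q : ℂ), q] i = P.cq (P.simple (e.symm i)) := fun i => by
    fin_cases i <;> simp [hq']
  have hQ : ∀ l, (P.cs.reindex e).IsReduced l → P.cq ((P.cs.reindex e).wordProd l) =
      (l.map ![(q : ℂ), q]).prod := by
    intro l hl
    induction l with
    | nil => simpa using cq_one
    | cons i l ih =>
      obtain ⟨h1, h2⟩ := (isReduced_cons_iff _).1 hl
      rw [CoxeterSystem.wordProd_cons, hs, cq_simple_mul (mt (hd _ _).2 h2), ih h1, List.map_cons,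
        List.prod_cons, hv]
  have ht : IsHecke (P.cs.reindex e) ![(q : ℂ), q] P.hk :=
    ⟨isHecke_hk.one_mul, fun i w hw => isHecke_hk.mul_of_not _ w (mt (hd _ _).2 hw),
      fun i => hv i ▸ isHecke_hk.sq _⟩
  have h0 : (q : ℂ) ≠ 0 := Rat.cast_ne_zero.2 (by positivity)
  rw [← hs, ← hs] at h8
  obtain ⟨e1, e2, e3⟩ := exp_facts (1 / 4) (by norm_num) (by norm_num)
  obtain ⟨c, hc⟩ := exists_rat ht (b := (Nat.card P.B : ℚ)⁻¹) (by simp)
    (fun w => by simpa using coeff_one_hk_mul_inv w) (fun _ _ => coeff_one_hk_mul) hQ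
    (ρ := q) (sq _) h0 h0 (by exact_mod_cast (by positivity)) e1
    (by rw [h8]; exact e3 8 1 (by norm_num)) fun _ => ⟨rfl, rfl⟩
  rw [e2, show ((1 / 4 : ℚ) : ℝ) * Real.pi = Real.pi / 4 by push_cast; ring,
    Real.cos_pi_div_four] at hc
  have h2 : ((√2 : ℝ) : ℂ) ^ 2 = 2 := by
    rw [← Complex.ofReal_pow, Real.sq_sqrt (by norm_num)]; norm_num
  have h1 : (q : ℂ) - 1 ≠ 0 := by exact_mod_cast (sub_pos.2 hq).ne'
  refine irrational_sqrt_two ⟨2 * q * c / (q - 1) ^ 2 - 2, Complex.ofReal_injective ?_⟩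
  push_cast at hc ⊢
  generalize ((√2 : ℝ) : ℂ) = y at *
  have h3 : 4 * ((q : ℂ) * q) - (q * (2 * (y / 2))) ^ 2 = 2 * q ^ 2 := by
    linear_combination (-(q : ℂ) ^ 2) * h2
  rw [h3] at hc
  rw [← hc]
  field_simp
  ring

end Cfsg.Agent.SU
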