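import Cfsg.Agent.SU.Geo
import Cfsg.Agent.SU.FH8
import Cfsg.Agent.Chev.BNParabolic

/-! The generalized polygon of a (B,N)-pair of rank two. -/

set_option autoImplicit false

namespace Cfsg.Agent.SU

open Cfsg.Agent.Chev Cfsg.Agent.Chev.FH Cfsg.BNPair

theorem uniq_of_girth {X : Type*} {adj : X → X → Prop} (hs : ∀ {a b}, adj a b → adj b a) {m : ℕ}
    (hg : ∀ (p : ℤ → X) (k : ℤ), 0 < k → k < 2 * m → NB adj p 0 k → p 0 ≠ p k) {p q : ℤ → X}
    {a b : ℤ} (hp : NB adj p a b) (hq : NB adj q a b) (h0 : p a = q a) (h1 : p b = q b)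
    (hl : b - a < m) : ∀ i, a ≤ i → i ≤ b → p i = q i := by
  by_cases hab : b < a
  · intro i _ _; omega
  obtain ⟨n, hn⟩ : ∃ n : ℕ, b = a + n := ⟨(b - a).toNat, by omega⟩
  induction n generalizing a with
  | zero => intro i hi hi'; rwa [show i = a by omega]
  | succ n ih =>
    have hn' : b = a + 1 + n := by push_cast at hn; omega
    by_cases h2 : p (a + 1) = q (a + 1)
    · have h4 := ih (hp.mono (a' := a + 1) (by omega) le_rfl)
        (hq.mono (a' := a + 1) (by omega) le_rfl) h2 (by omega) (by omega) hn'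
      intro i hi hi'
      by_cases h5 : i = a
      · rw [h5, h0]
      · exact h4 i (by omega) hi'
    · have hr : NB adj (fun i => p (2 * a - i)) (2 * a - b) a :=
        ⟨fun i hi hi' => hs (hp.adj' (by ring) (by omega) (by omega)),
          fun i hi hi' => (hp.ne' (by ring) (by omega) (by omega)).symm⟩
      have h3 := hr.glue hq (by rw [show 2 * a - a = a by ring, h0])
        (fun _ _ => by rwa [show 2 * a - (a - 1) = a + 1 by ring])
      refine absurd ?_ (hg _ (b - (2 * a - b)) (by omega) (by omega)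
        ((h3.shift (2 * a - b)).mono (by omega) le_rfl))
      simp only [zero_add, sub_add_cancel, if_pos (show 2 * a - b ≤ a by omega),
        if_neg (show ¬ b ≤ a by omega), show 2 * a - (2 * a - b) = b by ring, h1]

theorem mem_par_singleton {G : Type*} [Group G] {P : BNPair G} {s : P.S} {g : G} :
    g ∈ P.par {s} ↔ g ∈ P.B ∨ g ∈ P.cell (P.simple s) := by
  rw [mem_par_iff, ← cellOf_eq_one_iff, ← cellOf_eq_iff]
  generalize P.cellOf g = w
  refine ⟨fun h => ?_, ?_⟩
  · rw [coxPar, Set.image_singleton, cs_simple] at h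
    induction h using Subgroup.closure_induction with
    | mem x hx => exact Or.inr hx
    | one => exact Or.inl rfl
    | mul x y _ _ hx hy =>
      rcases hx with rfl | rfl <;> rcases hy with rfl | rfl <;> simp [P.simple_mul_self]
    | inv x _ hx => rcases hx with rfl | rfl <;> simp [inv_simple]
  · rintro (rfl | rfl)
    · exact one_mem _
    · rw [← cs_simple]; exact simple_mem_coxPar _ rfl

namespace BN

variable {G : Type*} [Group G] (P : BNPair G) (e : P.S ≃ Fin 2)

/-- The minimal parabolic subgroups. -/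
def Pa (i : Fin 2) : Subgroup G := P.par {e.symm i}

/-- The vertices. -/
abbrev V := Σ i : Fin 2, G ⧸ Pa P e i

/-- The vertex of type `i` of the chamber `g B`. -/
def v (i : Fin 2) (g : G) : V P e := ⟨i, QuotientGroup.mk g⟩

/-- Incidence. -/
def adj (a b : V P e) : Prop := ∃ i g, a = v P e i g ∧ b = v P e (i + 1) g

/-- The translation of the standard apartment. -/
def r : P.N := P.repN (e.symm 1) * P.repN (e.symm 0)

/-- The standard apartment. -/
def x (k : ℤ) : V P e := if k % 2 = 0 then v P e 0 (r P e ^ (k / 2) : P.N)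
  else v P e 1 (r P e ^ (k / 2) : P.N)

variable {P e}

theorem add_two (i : Fin 2) : i + 1 + 1 = i := by fin_cases i <;> rfl

theorem add_ne (i : Fin 2) : i + 1 ≠ i := by fin_cases i <;> simp

theorem smul_v (g : G) (i : Fin 2) (h : G) : g • v P e i h = v P e i (g * h) := rfl

theorem v_eq_iff {i : Fin 2} {g h : G} : v P e i g = v P e i h ↔ g⁻¹ * h ∈ Pa P e i := by
  rw [v, v, Sigma.mk.inj_iff, heq_eq_eq, QuotientGroup.eq]; simp

theorem eq_of_v_eq {i j : Fin 2} {g h : G} (H : v P e i g = v P e j h) : i = j :=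
  congrArg Sigma.fst H

theorem v_mul {i : Fin 2} (g : G) {h : G} (hh : h ∈ Pa P e i) : v P e i (g * h) = v P e i g :=
  (v_eq_iff.2 (by simpa using hh)).symm

theorem B_le (i : Fin 2) : P.B ≤ Pa P e i := P.B_le_par _

theorem s_mem (i : Fin 2) : (e.symm i : G) ∈ Pa P e i := coe_mem_par rfl

theorem s_not_mem (i : Fin 2) : (e.symm i : G) ∉ Pa P e (i + 1) := fun h => by
  rw [Pa, coe_mem_par_iff, Set.mem_singleton_iff] at h
  exact add_ne i (e.symm.injective h).symm

theorem mem_B {i : Fin 2} {g : G} (h : g ∈ Pa P e i) (h' : g ∈ Pa P e (i + 1)) : g ∈ P.B := by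
  have : Pa P e i ⊓ Pa P e (i + 1) = P.B := by
    rw [Pa, Pa, par_inf, Set.singleton_inter_of_notMem, par_empty]
    exact fun h => add_ne i (e.symm.injective h).symm
  exact this ▸ ⟨h, h'⟩

theorem adj_v (i : Fin 2) (g : G) : adj P e (v P e i g) (v P e (i + 1) g) := ⟨i, g, rfl, rfl⟩

theorem adj_symm {a b : V P e} (h : adj P e a b) : adj P e b a := by
  obtain ⟨i, g, rfl, rfl⟩ := h
  exact ⟨i + 1, g, rfl, by rw [add_two]⟩

theorem adj_smul (g : G) {a b : V P e} (h : adj P e a b) : adj P e (g • a) (g • b) := by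
  obtain ⟨i, k, rfl, rfl⟩ := h
  exact adj_v i _

theorem fst_adj {a b : V P e} (h : adj P e a b) : b.1 = a.1 + 1 := by
  obtain ⟨i, k, rfl, rfl⟩ := h
  rfl

theorem fst_nb {p : ℤ → V P e} {n : ℕ} (h : NB (adj P e) p 0 n) :
    (p n).1 = if Even n then (p 0).1 else (p 0).1 + 1 := by
  induction n with
  | zero => simp
  | succ n ih =>
    rw [fst_adj (h.adj' (i := n) (by push_cast; ring) (by omega) le_rfl),
      ih (h.mono le_rfl (by omega))]
    by_cases hn : Even n <;> simp [hn, Nat.even_add_one, add_two]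

/-- The Coxeter system indexed by `Fin 2`. -/
noncomputable abbrev cs2 (P : BNPair G) (e : P.S ≃ Fin 2) := P.cs.reindex e

theorem cs2_simple (i : Fin 2) : (cs2 P e).simple i = P.simple (e.symm i) := P.cs_simple _

/-- The order of the product of the generators. -/
noncomputable def M (P : BNPair G) (e : P.S ≃ Fin 2) : ℕ :=
  orderOf (P.simple (e.symm 0) * P.simple (e.symm 1))

theorem red (i : Fin 2) {n : ℕ} (hn : n ≤ M P e) : (cs2 P e).IsReduced (altWord i (i + 1) n) := by
  have := isReduced_altWord (cs2 P e) (n := n) (by rwa [cs2_simple, cs2_simple])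
  fin_cases i
  · exact this.1
  · exact this.2

theorem mul_mem_alt (i : Fin 2) {n : ℕ} (hn : n + 1 ≤ M P e) {g h : G}
    (hg : g ∈ P.cell (P.simple (e.symm i)))
    (hh : h ∈ P.cell ((cs2 P e).wordProd (altWord (i + 1) i n))) :
    g * h ∈ P.cell ((cs2 P e).wordProd (altWord i (i + 1) (n + 1))) := by
  have h1 := ((isReduced_cons_iff _).1 (red i hn)).2
  rw [altWord_succ, CoxeterSystem.wordProd_cons, cs2_simple]
  refine simple_mul_mem (fun h => h1 ?_) hg hh
  simp only [CoxeterSystem.IsLeftDescent, length_reindex] at h ⊢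
  exact h

theorem gallery {n : ℕ} (hn : n ≤ M P e) {p : ℤ → V P e} (hp : NB (adj P e) p 0 (n + 1))
    {i j : Fin 2} {g g' : G} (h0 : p 0 = v P e i g) (h1 : p 1 = v P e (i + 1) g)
    (h2 : p n = v P e j g') (h3 : p (n + 1) = v P e (j + 1) g') :
    g⁻¹ * g' ∈ P.cell ((cs2 P e).wordProd (altWord (i + 1) i n)) := by
  induction n generalizing p i g with
  | zero =>
    simp only [Nat.cast_zero, zero_add] at h2 h3
    obtain rfl := eq_of_v_eq (h0.symm.trans h2)
    simpa [mem_cell_one] using mem_B (v_eq_iff.1 (h0.symm.trans h2)) (v_eq_iff.1 (h1.symm.trans h3))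
  | succ n ih =>
    obtain ⟨k, g1, h4, h5⟩ := hp.adj' (i := 1) (j := 2) rfl (by omega) (by omega)
    obtain rfl := eq_of_v_eq (h1.symm.trans h4)
    have h6 := ih (by omega) (p := fun t => p (t + 1)) ((hp.shift 1).mono (by omega) (by omega))
      (i := i + 1) (g := g1) (by simpa using h4) (by simpa using h5) (by simpa using h2)
      (by simpa using h3)
    have h7 : g⁻¹ * g1 ∈ P.cell (P.simple (e.symm (i + 1))) := by
      refine (mem_par_singleton.1 (v_eq_iff.1 (h1.symm.trans h4))).resolve_left fun h => ?_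
      refine hp.ne' (i := 0) (j := 2) rfl le_rfl (by omega) ?_
      rw [h0, h5, add_two]
      exact v_eq_iff.2 (B_le i h)
    have := mul_mem_alt (i + 1) hn h7 h6
    rw [add_two] at this
    simpa [mul_assoc] using this

theorem nb_rev {p : ℤ → V P e} {a b : ℤ} (h : NB (adj P e) p a b) (c : ℤ) :
    NB (adj P e) (fun i => p (c - i)) (c - b) (c - a) :=
  ⟨fun i hi hi' => adj_symm (h.adj' (by ring) (by omega) (by omega)),
    fun i hi hi' => (h.ne' (by ring) (by omega) (by omega)).symm⟩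

theorem girth (p : ℤ → V P e) (k : ℤ) (hk : 0 < k) (hk' : k < 2 * M P e)
    (hp : NB (adj P e) p 0 k) : p 0 ≠ p k := by
  intro h
  obtain ⟨n, rfl⟩ : ∃ n : ℕ, k = n := ⟨k.toNat, by omega⟩
  have h1 := fst_nb hp
  rw [← h] at h1
  have h2 : Even n := by
    by_contra h2
    rw [if_neg h2] at h1
    exact add_ne _ h1.symm
  obtain ⟨j, rfl⟩ := h2
  obtain ⟨j, rfl⟩ : ∃ l, j = l + 1 := ⟨j - 1, by omega⟩
  push_cast at hk hk' hp h
  obtain ⟨i, g, h3, h4⟩ := hp.adj' (i := 0) (j := 1) rfl le_rfl (by omega)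
  obtain ⟨i', g', h5, h6⟩ := hp.adj' (i := j + 1) (j := j + 1 + 1) rfl (by omega) (by omega)
  obtain ⟨i'', g'', h7, h8⟩ := adj_symm (hp.adj' (i := 2 * j + 1) (j := j + 1 + (j + 1)) (by ring)
    (by omega) le_rfl)
  obtain rfl := eq_of_v_eq (h3.symm.trans (h.trans h7))
  have h9 := gallery (n := j + 1) (by omega) (hp.mono le_rfl (by push_cast; omega)) h3 h4
    (by simpa using h5) (by simpa using h6)
  have h10 := gallery (n := j) (by omega) (p := fun t => p (j + 1 + (j + 1) - t))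
    ((nb_rev hp _).mono (by omega) (by omega)) (by simpa using h7)
    (by rw [← h8]; congr 1; ring) (j := i' + 1) (g' := g') (by rw [← h6]; congr 1; ring)
    (by rw [add_two, ← h5]; congr 1; ring)
  have h11 : g⁻¹ * g' = g⁻¹ * g'' * (g''⁻¹ * g') := by group
  rcases mem_par_singleton.1 (v_eq_iff.1 (h3.symm.trans (h.trans h7))) with h12 | h12
  · have h13 := eq_of_mem_cell h9 (h11 ▸ mul_mem_cell h12 h10)
    have h14 := (red (P := P) (e := e) (i + 1) (n := j + 1) (by omega)).eq
    have h15 := (red (P := P) (e := e) (i + 1) (n := j) (by omega)).eq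
    rw [add_two] at h14 h15
    rw [h13, h15] at h14
    simp at h14
  · have h13 := eq_of_mem_cell h9 (h11 ▸ mul_mem_alt i (by omega) h12 h10)
    have h14 : M P e ∣ j + 1 := by
      have := wordProd_altWord_eq_iff (cs2 P e) (j + 1)
      rw [cs2_simple, cs2_simple] at this
      refine this.1 ?_
      fin_cases i
      · exact h13.symm
      · exact h13
    have := Nat.le_of_dvd (by omega) h14
    omega

theorem x_even (j : ℤ) : x P e (2 * j) = v P e 0 (r P e ^ j : P.N) := by
  rw [x, if_pos (by omega), show 2 * j / 2 = j by omega]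

theorem x_odd (j : ℤ) : x P e (2 * j + 1) = v P e 1 (r P e ^ j : P.N) := by
  rw [x, if_neg (by omega), show (2 * j + 1) / 2 = j by omega]

theorem coe_r : (r P e : G) = (e.symm 1 : G) * e.symm 0 := rfl

theorem x_zero : x P e 0 = v P e 0 1 := by simpa using x_even (P := P) (e := e) 0

theorem x_one : x P e 1 = v P e 1 1 := by simpa using x_odd (P := P) (e := e) 0

theorem x_adj (i : ℤ) : adj P e (x P e i) (x P e (i + 1)) := by
  obtain ⟨j, rfl | rfl⟩ := Int.even_or_odd' i
  · rw [x_even, x_odd]; exact adj_v 0 _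
  · rw [show 2 * j + 1 + 1 = 2 * (j + 1) by ring, x_even, x_odd, ← v_mul _ (s_mem 1), zpow_add_one,
      Subgroup.coe_mul, coe_r, ← mul_assoc, v_mul _ (s_mem 0)]
    exact adj_v 1 _

theorem x_ne (i : ℤ) : x P e i ≠ x P e (i + 2) := by
  obtain ⟨j, rfl | rfl⟩ := Int.even_or_odd' i
  · rw [show 2 * j + 2 = 2 * (j + 1) by ring, x_even, x_even, Ne, v_eq_iff, zpow_add_one,
      Subgroup.coe_mul, inv_mul_cancel_left, coe_r, mul_mem_cancel_right (s_mem 0)]
    exact s_not_mem 1
  · rw [show 2 * j + 1 + 2 = 2 * (j + 1) + 1 by ring, x_odd, x_odd, Ne, v_eq_iff, zpow_add_one,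
      Subgroup.coe_mul, inv_mul_cancel_left, coe_r, mul_mem_cancel_left (s_mem 1)]
    exact s_not_mem 0

theorem r_pow_mem : ((r P e ^ M P e : P.N) : G) ∈ P.B := by
  rw [← toW_eq_one_iff, map_pow, r, map_mul, toW_repN, toW_repN, ← inv_eq_one, ← inv_pow,
    mul_inv_rev, inv_simple, inv_simple, M, pow_orderOf_eq_one]

theorem x_per (i : ℤ) : x P e (i + 2 * M P e) = x P e i := by
  obtain ⟨j, rfl | rfl⟩ := Int.even_or_odd' i
  · rw [← mul_add, x_even, x_even, zpow_add, zpow_natCast, Subgroup.coe_mul,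
      v_mul _ (B_le _ r_pow_mem)]
  · rw [add_right_comm, ← mul_add, x_odd, x_odd, zpow_add, zpow_natCast, Subgroup.coe_mul,
      v_mul _ (B_le _ r_pow_mem)]

theorem smul_v_of_mem {h : G} (hh : h ∈ P.B ⊓ P.N) (i : Fin 2) (n : P.N) :
    h • v P e i n = v P e i n := by
  rw [smul_v, eq_comm, v_eq_iff]
  simpa [mul_assoc] using B_le i (P.conj_mem _ (inv_mem n.2) h hh)

theorem smul_x {h : G} (hh : h ∈ P.B ⊓ P.N) (i : ℤ) : h • x P e i = x P e i := by
  unfold x; split_ifs <;> exact smul_v_of_mem hh _ _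

theorem conn (a : V P e) : Relation.ReflTransGen (adj P e) (x P e 0) a := by
  let R : V P e → Prop := Relation.ReflTransGen (adj P e) (x P e 0)
  have h1 : ∀ i g, R (v P e i g) ↔ R (v P e (i + 1) g) := fun i g =>
    ⟨fun h => h.tail (adj_v i g), fun h => h.tail (adj_symm (adj_v i g))⟩
  let S : Subgroup G :=
    { carrier := {g | ∀ h, R (v P e 0 h) ↔ R (v P e 0 (h * g))}
      mul_mem' := fun {a b} ha hb h => by rw [ha h, hb, mul_assoc]
      one_mem' := fun h => by rw [mul_one]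
      inv_mem' := fun {a} ha h => by rw [ha (h * a⁻¹), inv_mul_cancel_right] }
  have h2 : ∀ i, Pa P e i ≤ S := by
    intro i g hg h
    obtain rfl | rfl : i = 0 ∨ i = 0 + 1 := by fin_cases i <;> simp
    · rw [v_mul _ hg]
    · rw [h1, h1 0 (h * g), v_mul _ hg]
  have h3 : S = ⊤ := by
    rw [eq_top_iff, ← P.par_univ, par_le_iff]
    refine ⟨(B_le 0).trans (h2 0), fun s _ => ?_⟩
    obtain ⟨i, rfl⟩ := e.symm.surjective s
    exact h2 i (s_mem i)
  have h4 : ∀ g, R (v P e 0 g) := fun g => by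
    have := (show g ∈ S from h3 ▸ Subgroup.mem_top g) 1
    rw [one_mul, ← x_zero] at this
    exact this.1 Relation.ReflTransGen.refl
  obtain ⟨i, g⟩ := a
  obtain ⟨g, rfl⟩ := QuotientGroup.mk_surjective g
  fin_cases i
  · exact h4 g
  · exact (h1 0 g).1 (h4 g)

theorem thick (a b c : V P e) : ∃ d, adj P e a d ∧ d ≠ b ∧ d ≠ c := by
  obtain ⟨i, g⟩ := a
  obtain ⟨g, rfl⟩ := QuotientGroup.mk_surjective g
  obtain ⟨t, ht, ht'⟩ := P.exists_conj_not_mem (e.symm i)
  have h0 : ∀ k ∈ Pa P e i, adj P e (v P e i g) (v P e (i + 1) (g * k)) := fun k hk =>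
    v_mul g hk ▸ adj_v i _
  have h1 : v P e (i + 1) (g * 1) ≠ v P e (i + 1) (g * e.symm i) := by
    rw [Ne, v_eq_iff]; simpa using s_not_mem i
  have h2 : v P e (i + 1) (g * 1) ≠ v P e (i + 1) (g * (t * e.symm i)) := by
    rw [Ne, v_eq_iff]; simpa [mul_mem_cancel_left (B_le _ ht)] using s_not_mem i
  have h3 : v P e (i + 1) (g * e.symm i) ≠ v P e (i + 1) (g * (t * e.symm i)) := by
    rw [Ne, v_eq_iff]
    intro h
    have h4 : (e.symm i : G)⁻¹ * (t * e.symm i) ∈ P.B :=
      mem_B (mul_mem (inv_mem (s_mem i)) (mul_mem (B_le _ ht) (s_mem i)))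
        (by simpa [mul_assoc] using h)
    exact ht' (by simpa [mul_assoc] using mul_mem (P.sq_mem _ (e.symm i).2) h4)
  have a1 := h0 1 (one_mem _)
  have a2 := h0 _ (s_mem i)
  have a3 := h0 _ (mul_mem (B_le _ ht) (s_mem i))
  by_contra h
  push Not at h
  have b1 := h _ a1
  have b2 := h _ a2
  have b3 := h _ a3
  generalize v P e (i + 1) (g * 1) = d1 at *
  generalize v P e (i + 1) (g * e.symm i) = d2 at *
  generalize v P e (i + 1) (g * (t * e.symm i)) = d3 at *
  by_cases c1 : d1 = b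
  · exact h3 ((b2 (c1 ▸ h1.symm)).trans (b3 (c1 ▸ h2.symm)).symm)
  · by_cases c2 : d2 = b
    · exact h2 ((b1 c1).trans (b3 (c2 ▸ h3.symm)).symm)
    · exact h1 ((b1 c1).trans (b2 c2).symm)

theorem tr_gen (hM : 1 ≤ M P e) {p y : ℤ → V P e} (hp : NB (adj P e) p 0 (M P e + 1))
    (hy : NB (adj P e) y 0 (M P e + 1)) {i : Fin 2} (h0 : y 0 = v P e i 1)
    (h1 : y 1 = v P e (i + 1) 1) (h2 : p 0 = y 0) (h3 : p 1 = y 1) :
    ∃ b ∈ P.B, ∀ t : ℤ, 0 ≤ t → t ≤ M P e + 1 → b • p t = y t := by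
  obtain ⟨j, g, h4, h5⟩ := hp.1 (M P e) (by omega) (by omega)
  obtain ⟨j', g', h6, h7⟩ := hy.1 (M P e) (by omega) (by omega)
  have h8 : j = j' := by
    have a1 := fst_nb (hp.mono le_rfl (show (M P e : ℤ) ≤ M P e + 1 by omega))
    have a2 := fst_nb (hy.mono le_rfl (show (M P e : ℤ) ≤ M P e + 1 by omega))
    rw [h2, ← a2, h4, h6] at a1
    exact a1
  subst h8
  obtain ⟨b, hb, b', hb', h9⟩ := exists_eq_of_mem_cell
    (gallery le_rfl hp (h2.trans h0) (h3.trans h1) h4 h5) (gallery le_rfl hy h0 h1 h6 h7)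
  simp only [inv_one, one_mul] at h9
  have h10 : ∀ k, b • v P e k 1 = v P e k 1 := fun k => by
    rw [smul_v, mul_one, ← one_mul b, v_mul _ (B_le _ hb)]
  have h11 : ∀ k, b • v P e k g = v P e k g' := fun k => by
    rw [smul_v, h9, v_mul _ (B_le _ hb')]
  have h12 := uniq_of_girth adj_symm girth (p := fun t => b • p t) (q := y) (a := 1) (b := M P e)
    ⟨fun t ht ht' => adj_smul b (hp.1 t (by omega) (by omega)),
      fun t ht ht' h => hp.2 t (by omega) (by omega) (smul_left_cancel b h)⟩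
    (hy.mono (by omega) (by omega)) (by rw [h3, h1, h10]) (by rw [h4, h6, h11]) (by omega)
  refine ⟨b, hb, fun t ht ht' => ?_⟩
  by_cases a1 : t = 0
  · rw [a1, h2, h0, h10]
  by_cases a2 : t = M P e + 1
  · rw [a2, h5, h7, h11]
  · exact h12 t (by omega) (by omega)

theorem x_nb (a b : ℤ) : NB (adj P e) (x P e) a b := ⟨fun i _ _ => x_adj i, fun i _ _ => x_ne i⟩

theorem mem_B_of_smul {g : G} (h0 : g • x P e 0 = x P e 0) (h1 : g • x P e 1 = x P e 1) :
    g ∈ P.B := by
  rw [x_zero, smul_v, eq_comm, v_eq_iff] at h0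
  rw [x_one, smul_v, eq_comm, v_eq_iff] at h1
  exact mem_B (i := 0) (by simpa using h0) (by simpa using h1)

theorem decomp {U : Subgroup G} (hUn : ∀ b ∈ P.B, ∀ u ∈ U, b * u * b⁻¹ ∈ U)
    (hUH : U ⊔ (P.B ⊓ P.N) = P.B) {b : G} (hb : b ∈ P.B) :
    ∃ h ∈ P.B ⊓ P.N, ∃ u ∈ U, b = h * u := by
  rw [← hUH, sup_comm, ← SetLike.mem_coe, Subgroup.coe_mul_of_left_le_normalizer_right] at hb
  · obtain ⟨h, hh, u, hu, rfl⟩ := hb
    exact ⟨h, hh, u, hu, rfl⟩
  · exact fun g hg => Subgroup.mem_normalizer_iff.2 fun u =>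
      ⟨hUn g hg.1 u, fun h => by simpa [mul_assoc] using hUn g⁻¹ (inv_mem hg.1) _ h⟩

variable (P e) in
/-- The polygon of a rank two (B,N)-pair. -/
noncomputable def poly (hM : 3 ≤ M P e) (U : Subgroup G) (hU : U ≤ P.B)
    (hUn : ∀ b ∈ P.B, ∀ u ∈ U, b * u * b⁻¹ ∈ U) (hnil : Group.IsNilpotent U)
    (hUH : U ⊔ (P.B ⊓ P.N) = P.B) : Poly G (V P e) (M P e) where
  adj := adj P e
  typ := fun a => decide (a.1 = 0)
  x := x P e
  F := U
  three_le := hM
  adj_symm := adj_symm
  adj_smul := adj_smul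
  typ_smul := fun _ _ => rfl
  typ_adj := fun {a b} h => by
    rw [fst_adj h]
    generalize a.1 = i
    fin_cases i <;> simp
  girth := girth
  x_adj := x_adj
  x_ne := x_ne
  x_per := x_per
  edge := by
    rintro _ _ ⟨i, g, rfl, rfl⟩ h
    obtain rfl : i = 0 := by
      rw [x_zero] at h
      exact of_decide_eq_true (h.trans rfl)
    exact ⟨g⁻¹, by rw [smul_v, x_zero, inv_mul_cancel], by rw [smul_v, x_one, inv_mul_cancel]; rfl⟩
  conn := conn
  thick := thick
  F_zero := fun u hu => by rw [x_zero, smul_v, mul_one, ← one_mul u, v_mul _ (B_le _ (hU hu))]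
  F_one := fun u hu => by rw [x_one, smul_v, mul_one, ← one_mul u, v_mul _ (B_le _ (hU hu))]
  F_norm := fun g h0 h1 => hUn g (mem_B_of_smul h0 h1)
  F_nil := hnil
  tr_pos := fun p hp h0 h1 => by
    obtain ⟨b, hb, h⟩ := tr_gen (by omega) hp (x_nb _ _) x_zero x_one h0 h1
    obtain ⟨k, hk, u, hu, rfl⟩ := decomp hUn hUH hb
    exact ⟨u, hu, fun t ht ht' => smul_left_cancel k (by rw [← mul_smul, h t ht ht', smul_x hk])⟩
  tr_neg := fun p hp h0 h1 => by
    obtain ⟨b, hb, h⟩ := tr_gen (by omega) (p := fun t => p (1 - t)) (y := fun t => x P e (1 - t))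
      ((nb_rev hp 1).mono (by omega) (by omega))
      ((nb_rev (x_nb (-(M P e : ℤ)) 1) 1).mono (by omega) (by omega)) (i := 1)
      (by simpa using x_one) (by simpa using x_zero) (by simpa using h1) (by simpa using h0)
    obtain ⟨k, hk, u, hu, rfl⟩ := decomp hUn hUH hb
    refine ⟨u, hu, fun t ht ht' => smul_left_cancel k ?_⟩
    have := h (1 - t) (by omega) (by omega)
    rw [sub_sub_cancel] at this
    rw [← mul_smul, this, smul_x hk]

end BN

end Cfsg.Agent.SU
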