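import Mathlib
import Cfsg.Agent.Chev.BNParabolic
import Cfsg.Agent.GT.Fitting

/-! Tits' rigidity lemma for (B,N)-pairs and the reduction of S3415 to rank two. -/

set_option autoImplicit false

namespace Cfsg.Agent.SU.Red

open Cfsg.BNPair Cfsg.Agent.Chev Subgroup

universe u

section Rigid

variable {G : Type*} [Group G] {P : BNPair G} {d : G} {w : P.W}

/-- `d` fixes the chamber `g B` and all chambers adjacent to it. -/
def Good (P : BNPair G) (d g : G) : Prop :=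
  g⁻¹ * d * g ∈ P.B ∧ ∀ (s : P.S) (h : G), g⁻¹ * h ∈ P.cell (P.simple s) → h⁻¹ * d * h ∈ P.B

theorem inv_mem_simple {s : P.S} {g : G} (h : g ∈ P.cell (P.simple s)) :
    g⁻¹ ∈ P.cell (P.simple s) := P.inv_simple s ▸ inv_mem_cell h

/-- The gate property. -/
theorem gate {s : P.S} {x h y : G} (hx : x⁻¹ * d * x ∈ P.B) (hh : x⁻¹ * h ∈ P.cell (P.simple s))
    (hy : y⁻¹ * d * y ∈ P.B) (hw : h⁻¹ * y ∈ P.cell w) (hs : ¬ P.cs.IsLeftDescent w s) :
    h⁻¹ * d * h ∈ P.B := by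
  have e : h⁻¹ * d * h = (x⁻¹ * h)⁻¹ * ((x⁻¹ * d * x) * (x⁻¹ * h)) := by group
  rcases simple_mul_mem_or (inv_mem_simple hh) (mul_mem_cell hx hh) with k | k
  · rw [P.simple_mul_self, mem_cell_one] at k
    rwa [e]
  · rw [← e] at k
    have h1 : (h⁻¹ * d * h) * (h⁻¹ * y) ∈ P.cell w := by
      have := mem_cell_mul hw hy
      rwa [show h⁻¹ * y * (y⁻¹ * d * y) = h⁻¹ * d * h * (h⁻¹ * y) by group] at this
    exact absurd (eq_of_mem_cell (simple_mul_mem hs k hw) h1) (simple_mul_ne s w)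

theorem conj_simple (hw : IsLongest P.cs Set.univ w) (s : P.S) :
    ∃ k : P.S, P.simple s * w = w * P.simple k := by
  obtain ⟨k, -, e⟩ := hw.exists_conj_simple (Set.mem_univ s)
  refine ⟨k, ?_⟩
  rw [← P.cs_simple, ← P.cs_simple, ← e, ← mul_assoc, ← mul_assoc, hw.mul_self, one_mul]

theorem not_desc (hw : IsLongest P.cs Set.univ w) (s : P.S) :
    ¬ P.cs.IsLeftDescent (P.simple s * w) s :=
  P.cs_simple s ▸ P.cs.isLeftDescent_iff_not_isLeftDescent_mul.1 (hw.isLeftDescent (Set.mem_univ s))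

theorem Good.of_opp (hw : IsLongest P.cs Set.univ w) {x y : G} (hx : x⁻¹ * d * x ∈ P.B)
    (hy : Good P d y) (e : x⁻¹ * y ∈ P.cell w) : Good P d x := by
  refine ⟨hx, fun s h hh => ?_⟩
  rcases simple_mul_mem_or (inv_mem_simple hh) e with k | k
  · exact gate hx hh hy.1 (by simpa [mul_assoc] using k) (not_desc hw s)
  obtain ⟨t, ht⟩ := conj_simple hw s
  obtain ⟨n, rfl⟩ := P.toW_surjective w
  obtain ⟨b, hb, b', hb', e'⟩ := (mem_cell_iff rfl).1 k
  refine gate (y := y * b'⁻¹ * t) hx hh (hy.2 t _ ?_) ?_ (not_desc hw s)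
  · simpa [mul_assoc] using mul_mem_cell (inv_mem hb') (coe_mem_cell_simple t)
  · have : h⁻¹ * (y * b'⁻¹ * t) = b * ((n * P.repN t : P.N) : G) := by
      have : h⁻¹ * y = b * n * b' := by rw [← e']; group
      change _ = b * (n * t)
      rw [← mul_assoc, ← mul_assoc, this]; group
    rw [this, ht]
    exact mul_mem_cell hb (coe_mem_cell (by rw [map_mul, P.toW_repN]))

theorem step (hw : IsLongest P.cs Set.univ w) {x y h : G} {s : P.S} (hx : Good P d x)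
    (hy : Good P d y) (e : x⁻¹ * y ∈ P.cell w) (hh : x⁻¹ * h ∈ P.cell (P.simple s)) :
    Good P d h ∧ ∃ y, Good P d y ∧ h⁻¹ * y ∈ P.cell w := by
  rcases simple_mul_mem_or (inv_mem_simple hh) e with k | k
  swap
  · replace k : h⁻¹ * y ∈ P.cell w := by simpa [mul_assoc] using k
    exact ⟨hy.of_opp hw (hx.2 s h hh) k, y, hy, k⟩
  obtain ⟨t, ht⟩ := conj_simple hw s
  obtain ⟨b, hb, e1⟩ := exists_simple_mul_mem_of_isLeftDescent (hw.isLeftDescent (Set.mem_univ t))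
  have e2 := inv_mem_cell e
  rw [hw.inv] at e2
  obtain ⟨n, hn⟩ := P.toW_surjective w
  obtain ⟨b₁, h1, b₂, h2, e3⟩ := (mem_cell_iff hn).1 e2
  have c1 : b₁ * b⁻¹ * (t : G)⁻¹ ∈ P.cell (P.simple t) :=
    mul_mem_cell (mul_mem h1 (inv_mem hb)) (inv_mem_simple (coe_mem_cell_simple t))
  have g1 : Good P d (y * (b₁ * b⁻¹ * (t : G)⁻¹)) := by
    refine hx.of_opp hw (hy.2 t _ (by simpa using c1)) ?_
    have : (y * (b₁ * b⁻¹ * (t : G)⁻¹))⁻¹ * x = t * b * n * b₂ := by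
      have : y⁻¹ * x = b₁ * n * b₂ := by rw [← e3]; group
      calc _ = t * b * b₁⁻¹ * (y⁻¹ * x) := by group
        _ = _ := by rw [this]; group
    exact this ▸ mem_cell_mul (e1 n hn) h2
  have k2 : h⁻¹ * (y * (b₁ * b⁻¹ * (t : G)⁻¹)) ∈ P.cell w := by
    rw [ht] at k
    have := mul_simple_mem (s := t) (P.cs_simple t ▸ P.cs.isRightDescent_iff_not_isRightDescent_mul.1
      (hw.2 t (Set.mem_univ t))) k c1
    rw [mul_assoc w, P.simple_mul_self, mul_one] at this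
    simpa [mul_assoc] using this
  exact ⟨g1.of_opp hw (hx.2 s h hh) k2, _, g1, k2⟩

/-- Tits' rigidity lemma. -/
theorem rigid [Finite G] (hd : d ∈ P.B ⊓ P.N)
    (h : ∀ (s : P.S), ∀ g ∈ P.cell (P.simple s), g⁻¹ * d * g ∈ P.B) : d ∈ P.B.normalCore := by
  obtain ⟨w, hw⟩ := exists_isLongest P.cs Set.univ
  obtain ⟨n, hn⟩ := P.toW_surjective w
  have g1 : Good P d 1 := ⟨by simpa using hd.1, fun s g hg => h s g (by simpa using hg)⟩
  have g2 : Good P d n := by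
    refine g1.of_opp hw (by simpa using P.conj_mem _ (inv_mem n.2) d hd) ?_
    have := inv_mem_cell (coe_mem_cell hn)
    rw [hw.inv] at this
    simpa using this
  have key : ∀ v : P.W, ∀ g ∈ P.cell v, Good P d g ∧ ∃ y, Good P d y ∧ g⁻¹ * y ∈ P.cell w := by
    refine length_induction_right P.cs (fun g hg => ?_) fun v s _ ih g hg => ?_
    · rw [mem_cell_one] at hg
      refine ⟨⟨mul_mem (mul_mem (inv_mem hg) hd.1) hg, fun s k hk => h s k ?_⟩, n, g2,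
        mul_mem_cell (inv_mem hg) (coe_mem_cell hn)⟩
      simpa using mul_mem_cell hg hk
    · obtain ⟨m, rfl⟩ := P.toW_surjective v
      obtain ⟨b, hb, b', hb', rfl⟩ := (mem_cell_iff (n := m * P.repN s)
        (by rw [map_mul, P.toW_repN, P.cs_simple])).1 hg
      obtain ⟨a1, y, a2, a3⟩ := ih (b * m) (mul_mem_cell hb (coe_mem_cell rfl))
      refine step hw a1 a2 a3 (s := s) ?_
      have : (b * m)⁻¹ * (b * ((m * P.repN s : P.N) : G) * b') = s * b' := by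
        change _ * (b * (m * s) * b') = _
        group
      exact this ▸ mem_cell_mul (coe_mem_cell_simple s) hb'
  intro g
  simpa using (key _ g⁻¹ (P.mem_cell_cellOf _)).1.1

end Rigid

section Quot

variable {G H : Type*} [Group G] [Group H] (P : BNPair G) (J : Set P.S) (f : P.par J →* H)

theorem mem_map_B (hk : ∀ x, f x = 1 → (x : G) ∈ P.B) {x : P.par J} :
    f x ∈ (P.B.subgroupOf (P.par J)).map f ↔ (x : G) ∈ P.B :=
  ⟨fun ⟨b, hb, e⟩ => by
    have := hk (b⁻¹ * x) (by rw [map_mul, map_inv, e, inv_mul_cancel])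
    simpa using mul_mem (mem_subgroupOf.1 hb) this, fun h => ⟨x, h, rfl⟩⟩

/-- The (B,N)-pair induced on a quotient of a parabolic subgroup. -/
def quot (hf : Function.Surjective f) (hk : ∀ x, f x = 1 → (x : G) ∈ P.B) : BNPair H where
  B := (P.B.subgroupOf (P.par J)).map f
  N := (P.N.subgroupOf (P.par J)).map f
  S := {h | ∃ s, ∃ hs : s ∈ J, f ⟨s, coe_mem_par hs⟩ = h}
  sup_eq_top := by
    rw [← Subgroup.map_sup, ← MonoidHom.range_eq_top.2 hf, MonoidHom.range_eq_map]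
    congr 1
    refine eq_top_iff.2 fun x _ => ?_
    have : P.par J ≤ (P.B.subgroupOf (P.par J) ⊔ P.N.subgroupOf (P.par J)).map (P.par J).subtype :=
      par_le_iff.2 ⟨fun b hb => ⟨⟨b, P.B_le_par J hb⟩, mem_sup_left hb, rfl⟩,
        fun s hs => ⟨⟨s, coe_mem_par hs⟩, mem_sup_right (P.subset s.2), rfl⟩⟩
    obtain ⟨y, hy, e⟩ := this x.2
    exact Subtype.ext e ▸ hy
  conj_mem := by
    rintro _ ⟨n, hn, rfl⟩ _ ⟨hb, t, ht, rfl⟩
    rw [← map_inv, ← map_mul, ← map_mul, mem_map_B P J f hk]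
    exact P.conj_mem n hn t ⟨(mem_map_B P J f hk).1 hb, ht⟩
  subset := by
    rintro _ ⟨s, hs, rfl⟩
    exact ⟨_, P.subset s.2, rfl⟩
  sq_mem := by
    rintro _ ⟨s, hs, rfl⟩
    rw [← map_mul, mem_map_B P J f hk]
    exact P.sq_mem s s.2
  inj := by
    rintro _ ⟨s, hs, rfl⟩ _ ⟨t, ht, rfl⟩ h
    rw [← map_inv, ← map_mul, mem_map_B P J f hk] at h
    obtain rfl : s = t := Subtype.ext (P.inj s s.2 t t.2 h)
    rfl
  closure_sup := by
    refine le_antisymm (sup_le ((closure_le _).2 ?_) inf_le_right) ?_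
    · rintro _ ⟨s, hs, rfl⟩
      exact ⟨_, P.subset s.2, rfl⟩
    rintro _ ⟨n, hn, rfl⟩
    obtain ⟨m, hm, e⟩ := exists_mem_closure_toW
      ((coe_mem_par_iff_toW (P := P) (J := J) (n := ⟨n, hn⟩)).1 n.2)
    have h1 : closure (Subtype.val '' J) ≤ ((closure {h | ∃ s, ∃ hs : s ∈ J,
        f ⟨s, coe_mem_par hs⟩ = h}).comap f).map (P.par J).subtype := (closure_le _).2 (by
      rintro _ ⟨s, hs, rfl⟩
      exact ⟨⟨s, coe_mem_par hs⟩, subset_closure ⟨s, hs, rfl⟩, rfl⟩)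
    obtain ⟨k, hk', e'⟩ := h1 hm
    have e2 : (k : G) = m := e'
    rw [show f n = f k * f (k⁻¹ * n) by simp]
    refine mul_mem (mem_sup_left hk') (mem_sup_right ⟨⟨_, ?_, rfl⟩, _, ?_, rfl⟩)
    · change (k : G)⁻¹ * n ∈ P.B
      rw [e2]
      exact P.toW_eq_iff.1 e
    · change (k : G)⁻¹ * n ∈ P.N
      rw [e2]
      exact mul_mem (inv_mem m.2) hn
  mul_mem_union := by
    rintro _ ⟨s, hs, rfl⟩ _ ⟨n, hn, rfl⟩ _ ⟨b, hb, rfl⟩
    have key : ∀ x y : P.par J, (x : G) ∈ DoubleCoset.doubleCoset (y : G) (P.B : Set G) P.B →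
        f x ∈ DoubleCoset.doubleCoset (f y) ((P.B.subgroupOf (P.par J)).map f : Set H)
          ((P.B.subgroupOf (P.par J)).map f) := fun x y h => by
      obtain ⟨c, hc, c', hc', e⟩ := DoubleCoset.mem_doubleCoset.1 h
      refine DoubleCoset.mem_doubleCoset.2 ⟨f ⟨c, P.B_le_par J hc⟩, ⟨_, hc, rfl⟩,
        f ⟨c', P.B_le_par J hc'⟩, ⟨_, hc', rfl⟩, ?_⟩
      rw [← map_mul, ← map_mul]
      exact congrArg f (Subtype.ext e)
    rw [← map_mul, ← map_mul, ← map_mul]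
    exact (P.mul_mem_union s s.2 n hn b hb).imp (key _ _) (key _ _)
  conj_ne := by
    rintro _ ⟨s, hs, rfl⟩ e
    obtain ⟨b, hb, h⟩ := P.exists_conj_not_mem s
    refine h ((mem_map_B P J f hk (x := ⟨s, coe_mem_par hs⟩ * ⟨b, P.B_le_par J hb⟩ *
      ⟨s, coe_mem_par hs⟩)).1 ?_)
    rw [map_mul, map_mul, ← SetLike.mem_coe, ← e]
    exact ⟨_, ⟨_, hb, rfl⟩, rfl⟩

end Quot

/-- The splitting subgroup meets `H` trivially. -/
def Reg {G : Type u} [Group G] (P : BNPair G) : Prop :=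
  ∀ U : Subgroup G, U ≤ P.B → (∀ b ∈ P.B, ∀ u ∈ U, b * u * b⁻¹ ∈ U) → Group.IsNilpotent U →
    U ⊔ (P.B ⊓ P.N) = P.B → U ⊓ (P.B ⊓ P.N) = ⊥

/-- The rank two case. -/
def Rank2 : Prop :=
  ∀ (G : Type u) [Group G] [Finite G] (P : BNPair G), P.rank = 2 → P.Irreducible →
    P.B.normalCore = ⊥ → Reg P

variable {G : Type u} [Group G] [Finite G] (P : BNPair G)

theorem reg (h : Rank2.{u}) (h2 : 2 ≤ P.rank) (hirr : P.Irreducible)
    (hcore : P.B.normalCore = ⊥) : Reg P := by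
  intro U hU hn hnil hs
  refine eq_bot_iff.2 fun d hd => hcore ▸ rigid hd.2 fun s g hg => ?_
  obtain ⟨t, ht, hst, hc⟩ : ∃ t ∈ P.S, t ≠ s ∧ (s : G) * t * (s : G)⁻¹ * t⁻¹ ∉ P.B := by
    have : Nontrivial P.S := Finite.one_lt_card_iff_nontrivial.1 h2
    obtain ⟨t, ht⟩ := exists_ne s
    obtain ⟨_, rfl, t', h1, h3⟩ := hirr {(s : G)} (Set.singleton_subset_iff.2 s.2)
      (Set.singleton_nonempty _) ⟨t, t.2, fun e => ht (Subtype.ext e)⟩
    exact ⟨t', h1.1, h1.2, h3⟩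
  let J : Set P.S := {s, ⟨t, ht⟩}
  have hsJ : s ∈ J := Or.inl rfl
  have htJ : (⟨t, ht⟩ : P.S) ∈ J := Or.inr rfl
  let K := (P.B.subgroupOf (P.par J)).normalCore
  let f := QuotientGroup.mk' K
  have hk : ∀ x, f x = 1 → (x : G) ∈ P.B := fun x e =>
    mem_subgroupOf.1 (normalCore_le _ ((QuotientGroup.eq_one_iff x).1 e))
  let Q := quot P J f (QuotientGroup.mk'_surjective K) hk
  have mB : ∀ {x}, f x ∈ Q.B ↔ (x : G) ∈ P.B := mem_map_B P J f hk
  have eS : Q.S = {f ⟨s, coe_mem_par hsJ⟩, f ⟨t, coe_mem_par htJ⟩} := by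
    ext x
    refine ⟨?_, fun e => e.elim (fun e => ⟨s, hsJ, e.symm⟩) fun e => ⟨_, htJ, e.symm⟩⟩
    rintro ⟨r, hr | hr, rfl⟩
    · subst hr; exact Or.inl rfl
    · subst hr; exact Or.inr rfl
  have ne : f ⟨s, coe_mem_par hsJ⟩ ≠ f ⟨t, coe_mem_par htJ⟩ := fun e =>
    hst (P.inj s s.2 t ht (hk (⟨s, coe_mem_par hsJ⟩⁻¹ * ⟨t, coe_mem_par htJ⟩)
      (by rw [map_mul, map_inv, e, inv_mul_cancel]))).symm
  have c1 : f ⟨s, coe_mem_par hsJ⟩ * f ⟨t, coe_mem_par htJ⟩ * (f ⟨s, coe_mem_par hsJ⟩)⁻¹ *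
      (f ⟨t, coe_mem_par htJ⟩)⁻¹ ∉ Q.B := fun e => by
    rw [← map_inv, ← map_inv, ← map_mul, ← map_mul, ← map_mul, mB] at e
    exact hc e
  have hQ := h _ Q (by rw [BNPair.rank, eS, Nat.card_coe_set_eq, Set.ncard_pair ne])
    (fun I hI ⟨a, ha⟩ ⟨b, hb⟩ => ⟨a, ha, b, hb, by
      have a1 := hI ha
      have b1 := hb.1
      have ab : a ≠ b := fun e => hb.2 (e ▸ ha)
      rw [eS] at a1 b1
      rcases a1 with rfl | rfl <;> rcases b1 with rfl | rfl
      · exact absurd rfl ab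
      · exact c1
      · exact fun e => c1 (by
          have := inv_mem e
          rwa [_root_.mul_inv_rev, _root_.mul_inv_rev, _root_.mul_inv_rev, inv_inv, inv_inv,
            ← mul_assoc, ← mul_assoc] at this)
      · exact absurd rfl ab⟩)
    (eq_bot_iff.2 fun x hx => by
      obtain ⟨x, rfl⟩ := QuotientGroup.mk'_surjective K x
      exact (QuotientGroup.eq_one_iff x).2 fun g => mem_subgroupOf.2
        (mB.1 (by rw [map_mul, map_mul, map_inv]; exact hx (f g))))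
    ((U.subgroupOf (P.par J)).map f) (map_mono fun x hx => hU hx) (by
      rintro _ ⟨b, hb, rfl⟩ _ ⟨v, hv, rfl⟩
      exact ⟨b * v * b⁻¹, hn b hb v hv, by simp⟩)
    (by
      have := Group.nilpotent_of_mulEquiv (subgroupOfEquivOfLe (hU.trans (P.B_le_par J))).symm
      exact Group.nilpotent_of_surjective _ (f.subgroupMap_surjective _))
    (le_antisymm (sup_le (map_mono fun x hx => hU hx) inf_le_left) (by
      rintro _ ⟨b, hb, rfl⟩
      have h1 : P.B ⊓ P.N ≤ normalizer (U : Set G) := fun k hk =>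
        mem_normalizer_fintype fun v hv => hn k hk.1 v hv
      have : (b : G) ∈ ((U ⊔ (P.B ⊓ P.N) : Subgroup G) : Set G) := by rwa [hs]
      rw [coe_mul_of_right_le_normalizer_left _ _ h1] at this
      obtain ⟨v, hv, k, hk, e⟩ := this
      rw [show b = ⟨v, P.B_le_par J (hU hv)⟩ * ⟨k, P.B_le_par J hk.1⟩ from Subtype.ext e.symm,
        map_mul]
      exact mul_mem (mem_sup_left ⟨_, hv, rfl⟩) (mem_sup_right ⟨⟨_, hk.1, rfl⟩, _, hk.2, rfl⟩)))
  have hdJ := P.B_le_par J hd.2.1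
  have hgJ : g ∈ P.par J := mem_par_of_mem_cell (simple_mem_coxPar P.cs hsJ) (P.cs_simple s ▸ hg)
  have : f ⟨d, hdJ⟩ = 1 := mem_bot.1 (hQ.le ⟨⟨_, hd.1, rfl⟩, ⟨_, hd.2.1, rfl⟩, _, hd.2.2, rfl⟩)
  simpa [mem_subgroupOf] using (QuotientGroup.eq_one_iff _).1 this ⟨g, hgJ⟩⁻¹

/-- Uniqueness of the splitting follows from regularity. -/
theorem Reg.unique {P : BNPair G} (h : Reg P) (U U' : Subgroup G) (hU : U ≤ P.B) (hU' : U' ≤ P.B)
    (hUn : ∀ b ∈ P.B, ∀ u ∈ U, b * u * b⁻¹ ∈ U) (hU'n : ∀ b ∈ P.B, ∀ u ∈ U', b * u * b⁻¹ ∈ U')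
    (hUnil : Group.IsNilpotent U) (hU'nil : Group.IsNilpotent U')
    (hUH : U ⊔ (P.B ⊓ P.N) = P.B) (hU'H : U' ⊔ (P.B ⊓ P.N) = P.B) : U = U' := by
  have nm : ∀ {X : Subgroup G}, (∀ b ∈ P.B, ∀ u ∈ X, b * u * b⁻¹ ∈ X) →
      P.B ≤ normalizer (X : Set G) := fun hX k hk => mem_normalizer_fintype (hX k hk)
  have hF := h (fittingOf P.B) (GT.fittingOf_le _)
    (fun b hb u hu => (mem_normalizer_iff.1 (GT.le_normalizer_fittingOf _ hb) u).1 hu) inferInstance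
    (le_antisymm (sup_le (GT.fittingOf_le _) inf_le_left)
      (hUH.ge.trans (sup_le_sup_right (GT.le_fittingOf hU (nm hUn)) _)))
  have key : ∀ X : Subgroup G, X ≤ P.B → (∀ b ∈ P.B, ∀ u ∈ X, b * u * b⁻¹ ∈ X) →
      Group.IsNilpotent X → X ⊔ (P.B ⊓ P.N) = P.B → X = fittingOf P.B := fun X h1 h2 _ h4 => by
    refine le_antisymm (GT.le_fittingOf h1 (nm h2)) fun x hx => ?_
    have : x ∈ ((X ⊔ (P.B ⊓ P.N) : Subgroup G) : Set G) := h4.symm ▸ GT.fittingOf_le _ hx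
    rw [coe_mul_of_right_le_normalizer_left _ _ (inf_le_left.trans (nm h2))] at this
    obtain ⟨v, hv, k, hk, rfl⟩ := this
    have : k = 1 := mem_bot.1 (hF.le
      ⟨(mul_mem_cancel_left (GT.le_fittingOf h1 (nm h2) hv)).1 hx, hk⟩)
    simpa [this] using hv
  rw [key U hU hUn hUnil hUH, key U' hU' hU'n hU'nil hU'H]

end Cfsg.Agent.SU.Red
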