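import Mathlib

/-! Generalized polygons with a group acting strongly transitively through a nilpotent normal
subgroup of a flag stabiliser (for S3415). -/

set_option autoImplicit false

namespace Cfsg.Agent.SU

/-- `p` is a non-backtracking walk on the integer interval `[a, b]`. -/
def NB {X : Type*} (adj : X → X → Prop) (p : ℤ → X) (a b : ℤ) : Prop :=
  (∀ i, a ≤ i → i < b → adj (p i) (p (i + 1))) ∧ ∀ i, a ≤ i → i + 2 ≤ b → p i ≠ p (i + 2)

/-- A thick generalized `m`-gon (incidence graph on `X`) with an action of `G`, an apartment `x`,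
and a nilpotent normal subgroup `F` of the stabiliser of the flag `(x 0, x 1)` which is transitive
on the apartments through that flag. -/
structure Poly (G X : Type*) [Group G] [MulAction G X] (m : ℕ) where
  /-- incidence -/
  adj : X → X → Prop
  /-- the type of a vertex -/
  typ : X → Bool
  /-- the standard apartment -/
  x : ℤ → X
  /-- the nilpotent subgroup -/
  F : Subgroup G
  three_le : 3 ≤ m
  adj_symm : ∀ {a b}, adj a b → adj b a
  adj_smul : ∀ (g : G) {a b}, adj a b → adj (g • a) (g • b)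
  typ_smul : ∀ (g : G) a, typ (g • a) = typ a
  typ_adj : ∀ {a b}, adj a b → typ a ≠ typ b
  girth : ∀ (p : ℤ → X) (k : ℤ), 0 < k → k < 2 * m → NB adj p 0 k → p 0 ≠ p k
  x_adj : ∀ i, adj (x i) (x (i + 1))
  x_ne : ∀ i, x i ≠ x (i + 2)
  x_per : ∀ i, x (i + 2 * m) = x i
  edge : ∀ {a b}, adj a b → typ a = typ (x 0) → ∃ g : G, g • a = x 0 ∧ g • b = x 1
  conn : ∀ a, Relation.ReflTransGen adj (x 0) a
  thick : ∀ a b c, ∃ d, adj a d ∧ d ≠ b ∧ d ≠ c
  F_zero : ∀ u ∈ F, u • x 0 = x 0
  F_one : ∀ u ∈ F, u • x 1 = x 1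
  F_norm : ∀ g : G, g • x 0 = x 0 → g • x 1 = x 1 → ∀ u ∈ F, g * u * g⁻¹ ∈ F
  F_nil : Group.IsNilpotent F
  tr_pos : ∀ p : ℤ → X, NB adj p 0 (m + 1) → p 0 = x 0 → p 1 = x 1 →
    ∃ u ∈ F, ∀ i : ℤ, 0 ≤ i → i ≤ m + 1 → u • p i = x i
  tr_neg : ∀ p : ℤ → X, NB adj p (-m) 1 → p 0 = x 0 → p 1 = x 1 →
    ∃ u ∈ F, ∀ i : ℤ, -m ≤ i → i ≤ 1 → u • p i = x i

namespace Poly

variable {G X : Type*} [Group G] [MulAction G X] {m : ℕ} (P : Poly G X m)

/-- The neighbours of a vertex. -/
def nbr (a : X) : Set X := {b | P.adj a b}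

/-- The valency of a vertex. -/
noncomputable def val (a : X) : ℕ := (P.nbr a).ncard

/-- The flag stabiliser. -/
def B : Subgroup G := MulAction.stabilizer G (P.x 0) ⊓ MulAction.stabilizer G (P.x 1)

/-- The elements fixing `a` and all its neighbours. -/
def K (a : X) : Subgroup G where
  carrier := {g | g • a = a ∧ ∀ b, P.adj a b → g • b = b}
  mul_mem' := fun {g h} hg hh => ⟨by rw [mul_smul, hh.1, hg.1],
    fun b hb => by rw [mul_smul, hh.2 b hb, hg.2 b hb]⟩
  one_mem' := ⟨one_smul _ _, fun _ _ => one_smul _ _⟩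
  inv_mem' := fun {g} hg => ⟨inv_smul_eq_iff.2 hg.1.symm,
    fun b hb => inv_smul_eq_iff.2 (hg.2 b hb).symm⟩

/-- The pointwise stabiliser of the standard apartment. -/
def H : Subgroup G where
  carrier := {g | ∀ i, g • P.x i = P.x i}
  mul_mem' := fun {g h} hg hh i => by rw [mul_smul, hh i, hg i]
  one_mem' := fun _ => one_smul _ _
  inv_mem' := fun {g} hg i => inv_smul_eq_iff.2 (hg i).symm

/-- An apartment: a closed non-backtracking walk of length `2 m`. -/
def Apt (y : ℤ → X) : Prop :=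
  (∀ i, P.adj (y i) (y (i + 1))) ∧ (∀ i, y i ≠ y (i + 2)) ∧ ∀ i, y (i + 2 * m) = y i

/-- `F` is the largest nilpotent normal subgroup of the flag stabiliser. -/
def Max : Prop := ∀ U : Subgroup G, U ≤ P.B → (∀ g ∈ P.B, ∀ u ∈ U, g * u * g⁻¹ ∈ U) →
  Group.IsNilpotent U → U ≤ P.F

/-- `b` is at distance `k` from `a` along a non-backtracking walk (the distance when `k ≤ m`). -/
def Dist (a b : X) (k : ℤ) : Prop := ∃ p : ℤ → X, NB P.adj p 0 k ∧ p 0 = a ∧ p k = b

/-- The same structure with the roles of `x 0` and `x 1` exchanged. -/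
def symm : Poly G X m where
  adj := P.adj
  typ := P.typ
  x := fun i => P.x (1 - i)
  F := P.F
  three_le := P.three_le
  adj_symm := P.adj_symm
  adj_smul := P.adj_smul
  typ_smul := P.typ_smul
  typ_adj := P.typ_adj
  girth := P.girth
  x_adj := fun i => by
    have := P.adj_symm (P.x_adj (1 - (i + 1)))
    rwa [show 1 - (i + 1) + 1 = 1 - i by ring] at this
  x_ne := fun i => by
    have := (P.x_ne (1 - (i + 2))).symm
    rwa [show 1 - (i + 2) + 2 = 1 - i by ring] at this
  x_per := fun i => by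
    have := P.x_per (1 - (i + 2 * m))
    rw [show 1 - (i + 2 * m) + 2 * m = 1 - i by ring] at this
    exact this.symm
  edge := fun {a b} h ht => by
    have h1 := P.typ_adj h
    have h2 := P.typ_adj (P.x_adj 0)
    simp only [sub_zero, zero_add] at ht h2
    obtain ⟨g, hg, hg'⟩ := P.edge (P.adj_symm h) (by
      revert h1 h2 ht
      cases P.typ a <;> cases P.typ b <;> cases P.typ (P.x 0) <;> cases P.typ (P.x 1) <;> simp)
    exact ⟨g, by simpa using hg', by simpa using hg⟩
  conn := fun a => by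
    have := P.adj_symm (P.x_adj 0)
    simp only [sub_zero, zero_add] at this ⊢
    exact (P.conn a).head this
  thick := P.thick
  F_zero := by simpa using P.F_one
  F_one := by simpa using P.F_zero
  F_norm := fun g h0 h1 => P.F_norm g (by simpa using h1) (by simpa using h0)
  F_nil := P.F_nil
  tr_pos := fun p hp h0 h1 => by
    obtain ⟨u, hu, h⟩ := P.tr_neg (fun i => p (1 - i)) ⟨fun i hi hi' => by
        have := P.adj_symm (hp.1 (1 - (i + 1)) (by omega) (by omega))
        rwa [show 1 - (i + 1) + 1 = 1 - i by ring] at this, fun i hi hi' => by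
        have := (hp.2 (1 - (i + 2)) (by omega) (by omega)).symm
        rwa [show 1 - (i + 2) + 2 = 1 - i by ring] at this⟩
      (by simpa using h1) (by simpa using h0)
    refine ⟨u, hu, fun i hi hi' => ?_⟩
    simpa using h (1 - i) (by omega) (by omega)
  tr_neg := fun p hp h0 h1 => by
    obtain ⟨u, hu, h⟩ := P.tr_pos (fun i => p (1 - i)) ⟨fun i hi hi' => by
        have := P.adj_symm (hp.1 (1 - (i + 1)) (by omega) (by omega))
        rwa [show 1 - (i + 1) + 1 = 1 - i by ring] at this, fun i hi hi' => by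
        have := (hp.2 (1 - (i + 2)) (by omega) (by omega)).symm
        rwa [show 1 - (i + 2) + 2 = 1 - i by ring] at this⟩
      (by simpa using h1) (by simpa using h0)
    refine ⟨u, hu, fun i hi hi' => ?_⟩
    simpa using h (1 - i) (by omega) (by omega)

@[simp] theorem symm_adj : P.symm.adj = P.adj := rfl
@[simp] theorem symm_typ : P.symm.typ = P.typ := rfl
@[simp] theorem symm_x (i : ℤ) : P.symm.x i = P.x (1 - i) := rfl
@[simp] theorem symm_F : P.symm.F = P.F := rfl
@[simp] theorem symm_nbr (a : X) : P.symm.nbr a = P.nbr a := rfl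
@[simp] theorem symm_val (a : X) : P.symm.val a = P.val a := rfl
@[simp] theorem symm_K (a : X) : P.symm.K a = P.K a := rfl

theorem mem_nbr {a b : X} : b ∈ P.nbr a ↔ P.adj a b := Iff.rfl

theorem mem_B {g : G} : g ∈ P.B ↔ g • P.x 0 = P.x 0 ∧ g • P.x 1 = P.x 1 := Iff.rfl

theorem mem_K {a : X} {g : G} : g ∈ P.K a ↔ g • a = a ∧ ∀ b, P.adj a b → g • b = b := Iff.rfl

theorem mem_H {g : G} : g ∈ P.H ↔ ∀ i, g • P.x i = P.x i := Iff.rfl

@[simp] theorem symm_B : P.symm.B = P.B := by
  ext g; simp [mem_B, and_comm]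

@[simp] theorem symm_H : P.symm.H = P.H := by
  ext g
  exact ⟨fun h i => by simpa using h (1 - i), fun h i => h _⟩

theorem Max.symm {P : Poly G X m} (h : P.Max) : P.symm.Max := by
  intro U; simpa using h U

theorem F_le_B : P.F ≤ P.B := fun u hu => ⟨P.F_zero u hu, P.F_one u hu⟩

theorem H_le_B : P.H ≤ P.B := fun _ hu => ⟨hu 0, hu 1⟩

theorem apt_x : P.Apt P.x := ⟨P.x_adj, P.x_ne, P.x_per⟩

end Poly

end Cfsg.Agent.SU
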