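import Cfsg.Agent.SU.Geo
import Cfsg.Agent.KS.One

/-! Counting the vertices fixed by an automorphism of a generalized polygon. -/

set_option autoImplicit false

namespace Cfsg.Agent.SU.Poly

variable {G X : Type*} [Group G] [MulAction G X] {m : ℕ} {P : Poly G X m} {b y y' z : X} {k : ℤ}
  {f : G}

theorem Dist.typ (h : P.Dist b y k) (hk : 0 ≤ k) : P.typ b = P.typ y ↔ Even k := by
  obtain ⟨p, hp, rfl, rfl⟩ := h
  simpa using typ_nb hp le_rfl hk hk le_rfl

theorem Dist.exists_pred (h : P.Dist b y k) (hk : 0 < k) : ∃ c, P.adj y c ∧ P.Dist b c (k - 1) ∧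
    (∀ z, P.adj y z → z ≠ c → P.Dist b z (k + 1)) ∧
    ∀ g : G, g • b = b → g • y = y → k < m → g • c = c := by
  obtain ⟨p, hp, rfl, rfl⟩ := h
  exact ⟨p (k - 1), P.adj_symm (hp.adj' (by ring) (by omega) le_rfl),
    dist_of_nb hp le_rfl (by omega) (by ring), fun z hz hz' =>
      ⟨_, nb_snoc hp hk.le hz fun _ => hz', Function.update_of_ne (by omega) _ _, by simp⟩,
    fun g h0 h1 hm => fix_of_ends hp (by omega) h0 h1 _ (by omega) (by omega)⟩

theorem Dist.pred_unique (hy : P.Dist b y k) (hy' : P.Dist b y' k) (hz : P.Dist b z (k + 1))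
    (h1 : P.adj y z) (h2 : P.adj y' z) (hk : 0 ≤ k) (hm : k + 1 < m) : y = y' := by
  have key : ∀ p, NB P.adj p 0 k → p 0 = b → 0 < k → z ≠ p (k - 1) := fun p hp h0 h3 h4 => by
    have h5 := dist_of_nb hp (i := 0) (j := k - 1) le_rfl (by omega) rfl
    rw [h0, ← h4] at h5
    have := hz.unique h5 (by omega) (by omega) (by omega) (by omega)
    omega
  obtain ⟨p, hp, h3, rfl⟩ := hy
  obtain ⟨q, hq, h4, rfl⟩ := hy'
  have := (uniq (nb_snoc hp hk h1 (key p hp h3)) (nb_snoc hq hk h2 (key q hq h4)) (by omega)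
    (by omega) (by rw [Function.update_of_ne (by omega), Function.update_of_ne (by omega), h3, h4])
    (by simp) (by omega)).2 k hk (by omega)
  rwa [Function.update_of_ne (by omega), Function.update_of_ne (by omega)] at this

theorem Dist.of_opp (h : P.Dist b y m) (hz : P.adj y z) : P.Dist b z (m - 1) :=
  (h.step (by omega) hz).elim Dist.of_succ And.right

theorem dist_one : P.Dist b y 1 ↔ P.adj b y :=
  ⟨fun ⟨_, hp, h0, h1⟩ => h0 ▸ h1 ▸ hp.adj' rfl le_rfl le_rfl, fun h => by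
    simpa using (dist_zero b).step le_rfl h⟩

variable (P) in
/-- the number of fixed neighbours -/
noncomputable def fixN (f : G) (a : X) : ℕ := {c | P.adj a c ∧ f • c = c}.ncard

variable [Finite G]

theorem sph_le (hk : 1 ≤ k) (hm : k + 1 ≤ m) {r : ℕ} (hr : ∀ y, P.Dist b y k → P.val y ≤ r + 1) :
    {y | P.Dist b y (k + 1)}.ncard ≤ {y | P.Dist b y k}.ncard * r := by
  have := P.finite
  rw [← mul_one {y | P.Dist b y (k + 1)}.ncard]
  refine KS.dcount_le (fun z y => P.adj y z) (fun z hz => ?_) fun y hy => ?_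
  · obtain ⟨c, h1, h2, -⟩ := Dist.exists_pred hz (by omega)
    exact (Set.ncard_pos (Set.toFinite _)).2 ⟨c, by simpa using h2, P.adj_symm h1⟩
  · obtain ⟨c, h1, h2, -⟩ := Dist.exists_pred hy (by omega)
    have h3 := hr y hy
    refine (Set.ncard_le_ncard (t := P.nbr y \ {c}) ?_).trans (by rw [ncard_nbr_diff h1]; omega)
    rintro z ⟨h4, h5⟩
    refine ⟨h5, fun h => ?_⟩
    have := Dist.unique h4 (h ▸ h2) (by omega) (by omega) (by omega) (by omega)
    omega

theorem sph_opp {r : ℕ} (hr : ∀ y, P.Dist b y (m - 1) → P.val y ≤ r + 1) :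
    {y | P.Dist b y m}.ncard * P.val b ≤ {y | P.Dist b y (m - 1)}.ncard * r := by
  have := P.finite
  have hm := P.three_le
  refine KS.dcount_le (fun z y => P.adj z y) (fun z hz => ?_) fun y hy => ?_
  · rw [Dist.val_eq hz]
    exact Set.ncard_le_ncard fun c hc => ⟨Dist.of_opp hz hc, hc⟩
  · obtain ⟨c, h1, h2, -⟩ := Dist.exists_pred hy (by omega)
    have h3 := hr y hy
    refine (Set.ncard_le_ncard (t := P.nbr y \ {c}) ?_).trans (by rw [ncard_nbr_diff h1]; omega)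
    rintro z ⟨h4, h5⟩
    refine ⟨P.adj_symm h5, fun h => ?_⟩
    have := Dist.unique h4 (h ▸ h2) (by omega) (by omega) (by omega) (by omega)
    omega

theorem fx_le (hk : 1 ≤ k) (hm : k + 1 < m) {r : ℕ}
    (hr : ∀ y, P.Dist b y k → f • y = y → r + 1 ≤ P.fixN f y) :
    {y | P.Dist b y k ∧ f • y = y}.ncard * r ≤ {y | P.Dist b y (k + 1) ∧ f • y = y}.ncard := by
  have := P.finite
  rw [← mul_one {y | P.Dist b y (k + 1) ∧ f • y = y}.ncard]
  refine KS.dcount_le (fun y z => P.adj y z) (fun y hy => ?_) fun z hz => ?_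
  · obtain ⟨c, -, -, h3, -⟩ := hy.1.exists_pred (by omega)
    have h4 := hr y hy.1 hy.2
    have h5 := Set.pred_ncard_le_ncard_sdiff_singleton {c | P.adj y c ∧ f • c = c} c
    refine le_trans (by unfold fixN at h4; omega) (h5.trans (Set.ncard_le_ncard ?_))
    exact fun z hz => ⟨⟨h3 z hz.1.1 hz.2, hz.1.2⟩, hz.1.1⟩
  · exact (Set.ncard_le_one (Set.toFinite _)).2 fun y hy y' hy' =>
      hy.1.1.pred_unique hy'.1.1 hz.1 hy.2 hy'.2 (by omega) hm

variable (P) in
/-- walks leaving the fixed structure at a vertex of `A` -/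
def Gd (f : G) (A : Set X) (q : ℤ → X) (j : ℤ) : Prop :=
  NB P.adj q 0 j ∧ q 0 ∈ A ∧ (0 < j → f • q 1 ≠ q 1)

omit [Finite G] in
theorem Gd.snoc {A : Set X} {q : ℤ → X} {j : ℤ} (h : P.Gd f A q j) (hj : 0 ≤ j)
    (hz : P.adj (q j) z) (h1 : 0 < j → z ≠ q (j - 1)) (h2 : j = 0 → f • z ≠ z) :
    ∃ q', P.Gd f A q' (j + 1) ∧ q' j = q j ∧ q' (j + 1) = z := by
  refine ⟨_, ⟨nb_snoc h.1 hj hz h1, ?_, fun _ => ?_⟩, Function.update_of_ne (by omega) _ _, by simp⟩
  · rw [Function.update_of_ne (by omega)]; exact h.2.1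
  · by_cases h3 : j = 0
    · subst h3; simpa using h2 rfl
    · rw [Function.update_of_ne (by omega)]; exact h.2.2 (by omega)

omit [Finite G] in
theorem Gd.unique {A : Set X} (hA : ∀ a ∈ A, f • a = a) {q q' : ℤ → X} {j : ℤ}
    (h : P.Gd f A q (j + 1)) (h' : P.Gd f A q' (j + 1)) (hj : 0 ≤ j) (hm : 2 * (j + 1) < m)
    (e : q (j + 1) = q' (j + 1)) : q j = q' j := by
  by_contra hne
  have h1 := h.1.glue (q := fun i => q' (2 * (j + 1) - i)) (c := 2 * (j + 1))
    ((nb_rev h'.1 _).mono (by omega) (by omega)) (by rw [e]; congr 1; ring) fun _ _ => by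
      rwa [add_sub_cancel_right, show 2 * (j + 1) - (j + 1 + 1) = j by ring]
  have h2 := fix_of_ends h1 (by omega) (g := f)
    (by simpa [show 0 ≤ j + 1 by omega] using hA _ h.2.1)
    (by simpa [show ¬ 2 * (j + 1) ≤ j + 1 by omega] using hA _ h'.2.1) 1 (by omega) (by omega)
  exact h.2.2 (by omega) (by simpa [hj] using h2)

theorem off_le {A B : Set X} (hA : ∀ a ∈ A, f • a = a) {j : ℤ} (hj : 0 ≤ j) (hm : 2 * (j + 1) < m)
    {r : ℕ} (hr : ∀ q, P.Gd f A q j → r ≤ {z | z ∈ B ∧ P.adj (q j) z ∧ (0 < j → z ≠ q (j - 1)) ∧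
      (j = 0 → f • z ≠ z)}.ncard) :
    {y | ∃ q, P.Gd f A q j ∧ q j = y}.ncard * r ≤
      {y | y ∈ B ∧ ∃ q, P.Gd f A q (j + 1) ∧ q (j + 1) = y}.ncard := by
  have := P.finite
  rw [← mul_one {y | y ∈ B ∧ _}.ncard]
  refine KS.dcount_le (fun y z => ∃ q, P.Gd f A q (j + 1) ∧ q j = y ∧ q (j + 1) = z) ?_
    fun z _ => ?_
  · rintro _ ⟨q, hq, rfl⟩
    refine (hr q hq).trans (Set.ncard_le_ncard fun z hz => ?_)
    obtain ⟨q', h1, h2, h3⟩ := hq.snoc hj hz.2.1 hz.2.2.1 hz.2.2.2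
    exact ⟨⟨hz.1, q', h1, h3⟩, q', h1, h2, h3⟩
  · refine (Set.ncard_le_one (Set.toFinite _)).2 ?_
    rintro _ ⟨-, q, h1, rfl, h2⟩ _ ⟨-, q', h3, rfl, h4⟩
    exact h1.unique hA h3 hj hm (h2.trans h4.symm)

theorem fixN_step (hf : f ∈ P.H) (i : ℤ) (h : 3 ≤ P.fixN f (P.x i)) :
    P.fixN f (P.x (i - 1)) = P.fixN f (P.x (i + 1)) := by
  have := P.finite
  have h1 : P.Dist (P.x i) (P.x (i + m)) m := P.apt_x.dist _ (by ring)
  rw [fixN, h1.ncard_fix (hf _) (hf _)] at h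
  obtain ⟨d, h2, h3⟩ : ∃ d ∈ {c | P.adj (P.x (i + m)) c ∧ f • c = c},
      d ∉ ({P.x (i + m + 1), P.x (i + m - 1)} : Set X) := Set.exists_mem_notMem_of_ncard_lt_ncard
    (lt_of_le_of_lt (Set.ncard_insert_le _ _) (by simp; omega))
  simp only [Set.mem_insert_iff, Set.mem_singleton_iff, not_or] at h3
  have a1 : ∀ j, P.adj (P.x j) (P.x (j - 1)) := fun j =>
    P.adj_symm ((P.apt_x.nb _ _).adj' (by ring) le_rfl le_rfl)
  have h4 := h1.opp_of_ne (a1 i) h2.1 (P.x_adj _) (by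
    rw [← P.x_per (i - 1)]; exact (P.apt_x.dist _ (by ring)).symm) h3.1
  have h5 := h1.opp_of_ne (P.x_adj i) h2.1 (a1 _) (P.apt_x.dist _ (by ring)) h3.2
  exact (h4.ncard_fix (hf _) h2.2).trans (h5.ncard_fix (hf _) h2.2).symm

theorem fixN_x (hf : f ∈ P.H) (h0 : 3 ≤ P.fixN f (P.x 0)) (h1 : 3 ≤ P.fixN f (P.x 1)) (j : ℤ) :
    P.fixN f (P.x (2 * j)) = P.fixN f (P.x 0) ∧ P.fixN f (P.x (2 * j + 1)) = P.fixN f (P.x 1) := by
  induction j using Int.induction_on with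
  | zero => simp
  | succ j ih =>
    have a1 := fixN_step hf (2 * j + 1) (ih.2 ▸ h1)
    rw [add_sub_cancel_right, ih.1, show 2 * (j : ℤ) + 1 + 1 = 2 * (j + 1) by ring] at a1
    have a2 := fixN_step hf (2 * (j + 1)) (a1 ▸ h0)
    rw [show 2 * ((j : ℤ) + 1) - 1 = 2 * j + 1 by ring, ih.2] at a2
    exact ⟨a1.symm, a2.symm⟩
  | pred j ih =>
    have a1 := fixN_step hf (2 * -j) (ih.1 ▸ h0)
    rw [ih.2, show 2 * -(j : ℤ) - 1 = 2 * (-j - 1) + 1 by ring] at a1
    have a2 := fixN_step hf (2 * (-j - 1) + 1) (a1 ▸ h1)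
    rw [add_sub_cancel_right, show 2 * (-(j : ℤ) - 1) + 1 + 1 = 2 * -j by ring, ih.1] at a2
    exact ⟨a2, a1⟩

theorem fix_bound (hf : f ∈ P.H) (h1 : f ∈ P.K (P.x 1)) (h9 : P.val (P.x 0) = 9)
    (h3 : {c | P.adj (P.x 0) c ∧ f • c = c}.ncard = 3) :
    Even m ∧ (m = 4 → P.val (P.x 1) ≤ 5) ∧ (m = 6 → P.val (P.x 1) ≤ 3) ∧
      (m = 8 → P.val (P.x 1) ≤ 4) := by
  have := P.finite
  have hm := P.three_le
  replace h3 : P.fixN f (P.x 0) = 3 := h3
  have hT : P.fixN f (P.x 1) = P.val (P.x 1) := by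
    unfold fixN val
    congr 1
    exact Set.ext fun c => ⟨And.left, fun h => ⟨h, h1.2 c h⟩⟩
  obtain ⟨t, ht⟩ : ∃ t, P.val (P.x 1) = t + 1 := ⟨P.val (P.x 1) - 1, by
    have := three_le_val (P := P) (P.x 1); omega⟩
  have ht2 : 2 ≤ t := by have := three_le_val (P := P) (P.x 1); omega
  have hx := fixN_x hf h3.ge (by omega)
  have he : Even m := by
    by_contra ho
    rw [Nat.not_even_iff_odd] at ho
    have a1 := val_odd (P := P) ho (P.x 0) (P.x 1)
    obtain ⟨j, hj⟩ := ho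
    have a2 := (P.apt_x.dist 0 (j := 2 * j + 1) (k := m) (by omega)).ncard_fix (hf _) (hf _)
    have a3 := (hx j).2
    unfold fixN at *
    omega
  have h01 := typ_x_one (P := P)
  have hval : ∀ y k, 0 ≤ k → P.Dist (P.x 1) y k → P.val y = if Even k then t + 1 else 9 := by
    intro y k hk h
    have a1 := h.typ hk
    split_ifs with a2
    · rw [← ht]; exact (val_eq (a1.2 a2)).symm
    · rw [← h9]
      refine val_eq ?_
      have a3 := mt a1.1 a2
      revert a3 h01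
      cases P.typ y <;> cases P.typ (P.x 0) <;> cases P.typ (P.x 1) <;> simp
  have hfix : ∀ y k, 0 ≤ k → P.Dist (P.x 1) y k → f • y = y →
      P.fixN f y = if Even k then t + 1 else 3 := by
    intro y k hk h hy
    obtain ⟨i, hi⟩ := P.apt_x.exists_opp y
    have a1 := (h.typ hk).symm
    rw [(hi.typ (by omega)).2 (by simpa using he), P.apt_x.typ_eq] at a1
    rw [fixN, hi.ncard_fix hy (hf i)]
    obtain ⟨j, rfl | rfl⟩ := Int.even_or_odd' i
    · rw [if_neg (by rw [a1]; simp [Int.even_sub]), ← h3]; exact (hx j).1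
    · rw [if_pos (by rw [a1]; simp), ← ht, ← hT]; exact (hx j).2
  have s1 : {y | P.Dist (P.x 1) y 1}.ncard ≤ t + 1 := by
    rw [← ht]; exact Set.ncard_le_ncard fun c hc => dist_one.1 hc
  have sS : ∀ k : ℤ, 1 ≤ k → k + 1 ≤ m → {y | P.Dist (P.x 1) y (k + 1)}.ncard ≤
      {y | P.Dist (P.x 1) y k}.ncard * if Even k then t else 8 := fun k a1 a2 =>
    sph_le a1 a2 fun y hy => by rw [hval y k (by omega) hy]; split_ifs <;> rfl
  have hm1 : ¬ Even ((m : ℤ) - 1) := by simpa [Int.even_sub] using he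
  have sm := sph_opp (P := P) (b := P.x 1) (r := 8) fun y hy => by
    rw [hval y _ (by omega) hy, if_neg hm1]
  have f1 : t + 1 ≤ {y | P.Dist (P.x 1) y 1 ∧ f • y = y}.ncard := by
    rw [← ht, ← hT]; exact Set.ncard_le_ncard fun c hc => ⟨dist_one.2 hc.1, hc.2⟩
  have fS : ∀ k : ℤ, 1 ≤ k → k + 1 < m → {y | P.Dist (P.x 1) y k ∧ f • y = y}.ncard *
      (if Even k then t else 2) ≤ {y | P.Dist (P.x 1) y (k + 1) ∧ f • y = y}.ncard := fun k a1 a2 =>
    fx_le a1 a2 fun y hy hy' => by rw [hfix y k (by omega) hy hy']; split_ifs <;> rfl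
  set A := {y | P.Dist (P.x 1) y (m - 1) ∧ f • y = y} with hA
  have hA' : ∀ a ∈ A, f • a = a := fun a ha => ha.2
  have hm4 : 4 ≤ m := by obtain ⟨j, hj⟩ := he; omega
  have d1 : ∀ q j, 0 < j → P.Gd f A q j → P.Dist (P.x 1) (q 1) m := fun q j hj hq => by
    obtain ⟨c, -, -, a1, a2⟩ := hq.2.1.1.exists_pred (by omega)
    simpa using a1 _ (hq.1.adj' (by ring) le_rfl hj) fun e =>
      hq.2.2 hj (e ▸ a2 f (hf 1) hq.2.1.2 (by omega))
  have o0 : A.ncard ≤ {y | ∃ q, P.Gd f A q 0 ∧ q 0 = y}.ncard := Set.ncard_le_ncard fun a ha =>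
    ⟨fun _ => a, ⟨⟨fun _ _ _ => by omega, fun _ _ _ => by omega⟩, ha, by omega⟩, rfl⟩
  have o1 := off_le (P := P) (B := Set.univ) hA' le_rfl (by omega) (r := 6) fun q hq => by
    have a1 := hval _ _ (by omega) hq.2.1.1
    have a2 := hfix _ _ (by omega) hq.2.1.1 hq.2.1.2
    rw [if_neg hm1] at a1 a2
    have a3 := Set.ncard_sdiff_add_ncard_of_subset (s := {c | P.adj (q 0) c ∧ f • c = c})
      (t := P.nbr (q 0)) fun c hc => hc.1
    refine le_trans (by unfold fixN val at *; omega) (Set.ncard_le_ncard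
      (s := P.nbr (q 0) \ {c | P.adj (q 0) c ∧ f • c = c}) fun z hz => ?_)
    exact ⟨trivial, hz.1, by omega, fun _ e => hz.2 ⟨hz.1, e⟩⟩
  simp only [Set.mem_univ, true_and, zero_add] at o1
  have o1' : {y | ∃ q, P.Gd f A q 1 ∧ q 1 = y}.ncard ≤ {y | P.Dist (P.x 1) y m}.ncard :=
    Set.ncard_le_ncard (by rintro _ ⟨q, hq, rfl⟩; exact d1 q 1 one_pos hq)
  have o2 := fun h : 4 < m => off_le (P := P) (B := Set.univ) hA' (j := 1) (by omega) (by omega)
    (r := t) fun q hq => by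
      have a1 := (d1 q 1 one_pos hq).val_eq
      have a2 := ncard_nbr_diff (P.adj_symm (hq.1.adj' (i := 0) (j := 1) rfl le_rfl le_rfl))
      refine le_trans (by omega) (Set.ncard_le_ncard (s := P.nbr (q 1) \ {q 0}) fun z hz => ?_)
      exact ⟨trivial, hz.1, fun _ => by simpa using hz.2, by omega⟩
  simp only [Set.mem_univ, true_and, one_add_one_eq_two] at o2
  have d2 : ∀ q, P.Gd f A q 2 → P.Dist (P.x 1) (q 2) (m - 1) := fun q hq =>
    (d1 q 2 two_pos hq).of_opp (hq.1.adj' rfl (by omega) le_rfl)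
  have o2' : {y | ∃ q, P.Gd f A q 2 ∧ q 2 = y}.ncard ≤ {y | P.Dist (P.x 1) y (m - 1)}.ncard :=
    Set.ncard_le_ncard (by rintro _ ⟨q, hq, rfl⟩; exact d2 q hq)
  have o3 := fun h : 6 < m => (off_le (P := P) (B := {y | P.Dist (P.x 1) y m}) hA' (j := 2)
    (by omega) (by omega) (r := 7) fun q hq => by
      obtain ⟨c, -, -, a0, -⟩ := (d2 q hq).exists_pred (by omega)
      have a1 := hval _ _ (by omega) (d2 q hq)
      rw [if_neg hm1] at a1
      have a2 := ncard_nbr_diff (P.adj_symm (hq.1.adj' (i := 1) (j := 2) rfl (by omega) le_rfl))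
      have a3 := Set.pred_ncard_le_ncard_sdiff_singleton (P.nbr (q 2) \ {q 1}) c
      refine le_trans (by omega) (Set.ncard_le_ncard (s := (P.nbr (q 2) \ {q 1}) \ {c})
        fun z hz => ?_)
      exact ⟨by simpa using a0 z hz.1.1 hz.2, hz.1.1, fun _ => by simpa using hz.1.2, by omega⟩).trans
    (Set.ncard_le_ncard fun _ h => h.1)
  rw [ht] at sm ⊢
  have s2 := (sS 1 le_rfl (by omega)).trans (Nat.mul_le_mul_right _ s1)
  have s3 := (sS (1 + 1) (by omega) (by omega)).trans (Nat.mul_le_mul_right _ s2)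
  have f2 := (Nat.mul_le_mul_right _ f1).trans (fS 1 le_rfl (by omega))
  have f3 := (Nat.mul_le_mul_right _ f2).trans (fS (1 + 1) (by omega) (by omega))
  replace o1 := (Nat.mul_le_mul_right _ o0).trans o1
  refine ⟨he, ?_, ?_, ?_⟩ <;> rintro rfl
  · norm_num at s3 f3 sm o1 o1' hA
    rw [← hA] at f3
    have a1 := (Nat.mul_le_mul_right _ (((Nat.mul_le_mul_right _ f3).trans o1).trans o1')).trans
      (sm.trans (Nat.mul_le_mul_right _ s3))
    have a2 : (t + 1) * t * (12 * (t + 1)) ≤ (t + 1) * t * 64 := by linarith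
    have := Nat.le_of_mul_le_mul_left a2 (by positivity)
    omega
  · have s4 := (sS (1 + 1 + 1) (by omega) (by omega)).trans (Nat.mul_le_mul_right _ s3)
    have s5 := (sS (1 + 1 + 1 + 1) (by omega) (by omega)).trans (Nat.mul_le_mul_right _ s4)
    have f4 := (Nat.mul_le_mul_right _ f3).trans (fS (1 + 1 + 1) (by omega) (by omega))
    have f5 := (Nat.mul_le_mul_right _ f4).trans (fS (1 + 1 + 1 + 1) (by omega) (by omega))
    norm_num at s5 f5 o2 o2' hA
    rw [← hA] at f5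
    have a1 := (((Nat.mul_le_mul_right _ ((Nat.mul_le_mul_right _ f5).trans o1)).trans o2).trans
      o2').trans s5
    have a2 : (t + 1) * t * t * (24 * t) ≤ (t + 1) * t * t * 64 := by linarith
    have := Nat.le_of_mul_le_mul_left a2 (by positivity)
    omega
  · have s4 := (sS (1 + 1 + 1) (by omega) (by omega)).trans (Nat.mul_le_mul_right _ s3)
    have s5 := (sS (1 + 1 + 1 + 1) (by omega) (by omega)).trans (Nat.mul_le_mul_right _ s4)
    have s6 := (sS (1 + 1 + 1 + 1 + 1) (by omega) (by omega)).trans (Nat.mul_le_mul_right _ s5)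
    have s7 := (sS (1 + 1 + 1 + 1 + 1 + 1) (by omega) (by omega)).trans (Nat.mul_le_mul_right _ s6)
    have f4 := (Nat.mul_le_mul_right _ f3).trans (fS (1 + 1 + 1) (by omega) (by omega))
    have f5 := (Nat.mul_le_mul_right _ f4).trans (fS (1 + 1 + 1 + 1) (by omega) (by omega))
    have f6 := (Nat.mul_le_mul_right _ f5).trans (fS (1 + 1 + 1 + 1 + 1) (by omega) (by omega))
    have f7 := (Nat.mul_le_mul_right _ f6).trans (fS (1 + 1 + 1 + 1 + 1 + 1) (by omega) (by omega))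
    norm_num at s7 f7 sm o2 o3 hA
    rw [← hA] at f7
    have a1 := (Nat.mul_le_mul_right _ ((Nat.mul_le_mul_right _ ((Nat.mul_le_mul_right _
      ((Nat.mul_le_mul_right _ f7).trans o1)).trans o2)).trans o3)).trans
      (sm.trans (Nat.mul_le_mul_right _ s7))
    have a2 : (t + 1) * t * t * t * (336 * (t * (t + 1))) ≤ (t + 1) * t * t * t * 4096 := by
      linarith
    have := Nat.le_of_mul_le_mul_left a2 (by positivity)
    nlinarith

theorem fix_count (hm : m = 3 ∨ m = 4 ∨ m = 6 ∨ m = 8) (hH : f ∈ P.H) (hK : f ∈ P.K (P.x 1))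
    (h9 : P.val (P.x 0) = 9) (h3 : (P.nbr (P.x 0) ∩ MulAction.fixedBy X f).ncard = 3) :
    m ≠ 3 ∧ P.val (P.x 1) ≤ 5 ∧ (m ≠ 4 → P.val (P.x 1) ≤ 4) := by
  obtain ⟨⟨j, h1⟩, h2⟩ := fix_bound hH hK h9 h3
  omega

end Cfsg.Agent.SU.Poly
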