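import Cfsg.Agent.SU.Walk
import Cfsg.Agent.GT.Fitting

/-! Distances, projections, rigidity and counting in a generalized polygon. -/

set_option autoImplicit false

namespace Cfsg.Agent.SU

theorem card_eq_of_orbit {G X : Type*} [Group G] [MulAction G X] (S : Subgroup G) (a : X)
    {O : Set X} (h : ∀ b, b ∈ O ↔ ∃ s ∈ S, s • a = b) :
    Nat.card S = O.ncard * Nat.card (S ⊓ MulAction.stabilizer G a : Subgroup G) := by
  have h1 : O = MulAction.orbit S a := by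
    ext b
    rw [h]
    exact ⟨fun ⟨s, hs, h⟩ => ⟨⟨s, hs⟩, h⟩, fun ⟨s, h⟩ => ⟨s, s.2, h⟩⟩
  have key : (MulAction.stabilizer G a).subgroupOf S = MulAction.stabilizer S a := by ext; rfl
  rw [h1, ← MulAction.index_stabilizer, ← key, ← Subgroup.inf_subgroupOf_right, mul_comm,
    inf_comm, ← Subgroup.card_mul_index ((MulAction.stabilizer G a ⊓ S).subgroupOf S)]
  congr 1
  exact Nat.card_congr (Subgroup.subgroupOfEquivOfLe inf_le_right).toEquiv

namespace Poly

variable {G X : Type*} [Group G] [MulAction G X] {m : ℕ} {P : Poly G X m} {p q y : ℤ → X} {a b : ℤ}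

theorem exists_smul_x (u : X) : (∃ g : G, g • u = P.x 0) ∨ ∃ g : G, g • u = P.x 1 := by
  obtain ⟨d, hd, -⟩ := P.thick u u u
  rcases edge' hd with ⟨g, h, -⟩ | ⟨g, h, -⟩
  · exact Or.inl ⟨g, h⟩
  · exact Or.inr ⟨g, h⟩

theorem exists_smul_eq {u v : X} (h : P.typ u = P.typ v) : ∃ g : G, g • u = v := by
  have h0 := typ_x_one (P := P)
  rcases exists_smul_x (P := P) u with ⟨g, hg⟩ | ⟨g, hg⟩ <;>
    rcases exists_smul_x (P := P) v with ⟨g', hg'⟩ | ⟨g', hg'⟩
  · exact ⟨g'⁻¹ * g, by rw [mul_smul, hg, inv_smul_eq_iff, hg']⟩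
  · rw [← hg, ← hg', P.typ_smul, P.typ_smul] at h0; exact absurd h.symm h0
  · rw [← hg, ← hg', P.typ_smul, P.typ_smul] at h0; exact absurd h h0
  · exact ⟨g'⁻¹ * g, by rw [mul_smul, hg, inv_smul_eq_iff, hg']⟩

theorem finite [Finite G] (P : Poly G X m) : Finite X := by
  refine Finite.of_surjective (fun g : G ⊕ G => Sum.elim (fun g => g • P.x 0) (fun g => g • P.x 1) g)
    fun u => ?_
  rcases exists_smul_x (P := P) u with ⟨g, hg⟩ | ⟨g, hg⟩
  · exact ⟨Sum.inl g⁻¹, inv_smul_eq_iff.2 hg.symm⟩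
  · exact ⟨Sum.inr g⁻¹, inv_smul_eq_iff.2 hg.symm⟩

theorem nbr_smul (g : G) (u : X) : P.nbr (g • u) = (fun v => g • v) '' P.nbr u := by
  ext v
  refine ⟨fun h => ⟨g⁻¹ • v, ?_, by simp⟩, ?_⟩
  · simpa [mem_nbr] using P.adj_smul g⁻¹ h
  · rintro ⟨w, hw, rfl⟩; exact P.adj_smul g hw

theorem val_smul (g : G) (u : X) : P.val (g • u) = P.val u := by
  rw [val, nbr_smul, Set.ncard_image_of_injective _ (MulAction.injective g), val]

theorem val_eq {u v : X} (h : P.typ u = P.typ v) : P.val u = P.val v := by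
  obtain ⟨g, rfl⟩ := exists_smul_eq h
  rw [val_smul]

theorem three_le_val [Finite G] (u : X) : 3 ≤ P.val u := by
  have := P.finite
  obtain ⟨a, ha, -⟩ := P.thick u u u
  obtain ⟨b, hb, hb', -⟩ := P.thick u a a
  obtain ⟨c, hc, hc1, hc2⟩ := P.thick u a b
  exact (Set.two_lt_ncard_iff (Set.toFinite _)).2 ⟨a, b, c, ha, hb, hc, hb'.symm, hc1.symm, hc2.symm⟩

theorem smul_mem_K {g k : G} {u : X} (hk : k ∈ P.K u) : g * k * g⁻¹ ∈ P.K (g • u) :=
  ⟨by simp [mul_smul, hk.1], fun b hb => by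
    rw [mul_smul, mul_smul, hk.2 _ (by simpa using P.adj_smul g⁻¹ hb), smul_inv_smul]⟩

theorem Dist.symm {u v : X} {k : ℤ} (h : P.Dist u v k) : P.Dist v u k := by
  obtain ⟨p, hp, rfl, rfl⟩ := h
  exact ⟨_, by simpa using nb_rev hp k, by simp, by simp⟩

theorem Dist.smul {u v : X} {k : ℤ} (h : P.Dist u v k) (g : G) : P.Dist (g • u) (g • v) k := by
  obtain ⟨p, hp, rfl, rfl⟩ := h
  exact ⟨_, nb_smul hp g, rfl, rfl⟩

theorem dist_of_nb (hp : NB P.adj p a b) {i j k : ℤ} (hi : a ≤ i) (hj : j ≤ b) (hk : k = j - i) :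
    P.Dist (p i) (p j) k :=
  ⟨_, (hp.shift i).mono (by omega) (by omega), by simp, by simp [hk]⟩

theorem Apt.dist (hy : P.Apt y) (i : ℤ) {j k : ℤ} (hk : k = j - i) : P.Dist (y i) (y j) k :=
  dist_of_nb (hy.nb i j) le_rfl le_rfl hk

theorem dist_zero (u : X) : P.Dist u u 0 :=
  ⟨fun _ => u, ⟨fun _ _ _ => by omega, fun _ _ _ => by omega⟩, rfl, rfl⟩

theorem Dist.step {u v c : X} {k : ℤ} (h : P.Dist u v k) (hk : 0 ≤ k) (hc : P.adj v c) :
    P.Dist u c (k + 1) ∨ (0 < k ∧ P.Dist u c (k - 1)) := by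
  obtain ⟨p, hp, rfl, rfl⟩ := h
  by_cases h : 0 < k ∧ c = p (k - 1)
  · exact Or.inr ⟨h.1, h.2 ▸ dist_of_nb hp le_rfl (by omega) (by ring)⟩
  · refine Or.inl ⟨_, nb_snoc hp hk hc fun h1 h2 => h ⟨h1, h2⟩, ?_, by simp⟩
    exact Function.update_of_ne (by omega) _ _

theorem Dist.of_succ {u v : X} (h : P.Dist u v (m + 1)) : P.Dist u v (m - 1) := by
  obtain ⟨p, hp, rfl, rfl⟩ := h
  obtain ⟨y, hy, hy'⟩ := exists_apt hp (by omega) (by omega)
  rw [← hy' 0 le_rfl (by omega), ← hy' _ (by omega) le_rfl, ← hy.2.2 0]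
  exact (hy.dist _ (by ring)).symm

theorem exists_dist (u v : X) : ∃ k : ℤ, 0 ≤ k ∧ k ≤ m ∧ P.Dist u v k := by
  have h : Relation.ReflTransGen P.adj u v := by
    refine Relation.ReflTransGen.trans ?_ (P.conn v)
    have := P.conn u
    induction this with
    | refl => rfl
    | tail _ h ih => exact ih.head (P.adj_symm h)
  have hm := P.three_le
  induction h with
  | refl => exact ⟨0, le_rfl, by omega, dist_zero u⟩
  | tail _ h ih =>
    obtain ⟨k, h0, h1, h2⟩ := ih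
    rcases h2.step h0 h with h3 | ⟨h3, h4⟩
    · by_cases h5 : k = m
      · exact ⟨m - 1, by omega, by omega, Dist.of_succ (h5 ▸ h3)⟩
      · exact ⟨k + 1, by omega, by omega, h3⟩
    · exact ⟨k - 1, by omega, by omega, h4⟩

theorem Dist.unique {u v : X} {k l : ℤ} (h : P.Dist u v k) (h' : P.Dist u v l) (hk : 0 ≤ k)
    (hl : 0 ≤ l) (hk' : k ≤ m) (hl' : l ≤ m) : k = l := by
  by_cases h1 : k + l < 2 * m
  · obtain ⟨p, hp, h2, h3⟩ := h
    obtain ⟨q, hq, h4, h5⟩ := h'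
    exact (uniq hp hq hk hl (h2.trans h4.symm) (h3.trans h5.symm) (by omega)).1
  · omega

theorem Apt.exists_opp (hy : P.Apt y) (u : X) : ∃ i, P.Dist u (y i) m := by
  have key : ∀ n : ℕ, ∀ k : ℤ, 0 ≤ k → k + n = m → ∀ i, P.Dist u (y i) k →
      ∃ j, P.Dist u (y j) m := by
    intro n
    induction n with
    | zero => intro k _ hk i hi; exact ⟨i, by rwa [← hk, Nat.cast_zero, add_zero]⟩
    | succ n ih =>
      rintro k hk0 hk i ⟨p, hp, rfl, h1⟩
      have h2 : ∃ j, P.adj (p k) (y j) ∧ y j ≠ p (k - 1) := by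
        rw [h1]
        by_cases h : y (i + 1) = p (k - 1)
        · exact ⟨i - 1, P.adj_symm ((hy.nb _ _).adj' (by ring) le_rfl le_rfl),
            h ▸ (hy.nb _ _).ne' (by ring) le_rfl le_rfl⟩
        · exact ⟨i + 1, hy.1 i, h⟩
      obtain ⟨j, h3, h4⟩ := h2
      exact ih (k + 1) (by omega) (by push_cast at hk; omega) j
        ⟨_, nb_snoc hp hk0 h3 fun _ => h4, Function.update_of_ne (by omega) _ _, by simp⟩
  obtain ⟨k, h0, h1, h2⟩ := exists_dist (P := P) u (y 0)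
  exact key (m - k).toNat k h0 (by omega) 0 h2

/-- a walk from a neighbour of `u` to a neighbour of the opposite vertex `v` extends to `v` -/
theorem Dist.proj_ne {u v c : X} (h : P.Dist u v m) (hc : P.adj u c) (hp : NB P.adj p 0 (m - 2))
    (h0 : p 0 = c) : v ≠ p (m - 2 - 1) := by
  have hm := P.three_le
  intro h1
  have h2 : P.Dist v c (m - 3) := by
    rw [h1, ← h0]; exact (dist_of_nb hp le_rfl (by omega) (by ring)).symm
  rcases h2.step (by omega) (P.adj_symm hc) with h3 | ⟨h3, h4⟩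
  · have := h.symm.unique h3 (by omega) (by omega) le_rfl (by omega); omega
  · have := h.symm.unique h4 (by omega) (by omega) le_rfl (by omega); omega

/-- projection between the neighbours of opposite vertices -/
theorem Dist.proj {u v c : X} (h : P.Dist u v m) (hc : P.adj u c) :
    ∃! d, P.adj v d ∧ P.Dist c d (m - 2) := by
  have hm := P.three_le
  refine existsUnique_of_exists_of_unique ?_ ?_
  · obtain ⟨p, hp, rfl, rfl⟩ := h
    by_cases h1 : c = p 1
    · exact ⟨p (m - 1), P.adj_symm (hp.adj' (by ring) (by omega) le_rfl),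
        h1 ▸ dist_of_nb hp (by omega) (by omega) (by ring)⟩
    · obtain ⟨y, hy, hy'⟩ := exists_apt (nb_cons hp (by omega) hc fun _ => by simpa using h1)
        (by omega) (by omega)
      have h2 := hy' (0 - 1) le_rfl (by omega)
      have h3 := hy' m (by omega) le_rfl
      rw [Function.update_self] at h2
      rw [Function.update_of_ne (by omega)] at h3
      rw [← h2, ← h3, ← hy.2.2 (0 - 1)]
      exact ⟨y (m + 1), hy.1 m, (hy.dist _ (by ring)).symm⟩
  · rintro d d' ⟨h1, p, hp, h2, rfl⟩ ⟨h3, q, hq, h4, rfl⟩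
    have h5 := nb_snoc hp (by omega) (P.adj_symm h1) fun _ =>
      h.proj_ne hc hp h2
    have h6 := nb_snoc hq (by omega) (P.adj_symm h3) fun _ =>
      h.proj_ne hc hq h4
    have := (uniq h5 h6 (by omega) (by omega) (by
      rw [Function.update_of_ne (by omega), Function.update_of_ne (by omega), h2, h4])
      (by simp) (by omega)).2 (m - 2) (by omega) (by omega)
    rwa [Function.update_of_ne (by omega), Function.update_of_ne (by omega)] at this

theorem Dist.opp_of_ne {u v c d d' : X} (h : P.Dist u v m) (hc : P.adj u c) (hd : P.adj v d)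
    (hd' : P.adj v d') (h1 : P.Dist c d' (m - 2)) (hne : d ≠ d') : P.Dist c d m := by
  have hm := P.three_le
  obtain ⟨p, hp, h2, rfl⟩ := h1
  have h5 := nb_snoc hp (by omega) (P.adj_symm hd') fun _ =>
    h.proj_ne hc hp h2
  have h6 := nb_snoc h5 (by omega) (c := d) (by simpa using hd) fun _ => by
    rwa [Function.update_of_ne (by omega), add_sub_cancel_right]
  rw [show (m : ℤ) - 2 + 1 + 1 = m by ring] at h6
  refine ⟨_, h6, ?_, by simp⟩
  rw [Function.update_of_ne (by omega), Function.update_of_ne (by omega), h2]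

theorem Dist.ncard_eq {u v : X} (h : P.Dist u v m) {R S : X → Prop}
    (hRS : ∀ c d, P.adj u c → P.adj v d → P.Dist c d (m - 2) → (R c ↔ S d)) :
    {c | P.adj u c ∧ R c}.ncard = {d | P.adj v d ∧ S d}.ncard := by
  refine Set.ncard_congr (fun c hc => (h.proj hc.1).exists.choose) (fun c hc => ?_)
    (fun c c' hc hc' e => ?_) fun d hd => ?_
  · have := (h.proj hc.1).exists.choose_spec
    exact ⟨this.1, (hRS _ _ hc.1 this.1 this.2).1 hc.2⟩
  · have h1 := (h.proj hc.1).exists.choose_spec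
    have h2 := (h.proj hc'.1).exists.choose_spec
    rw [← e] at h2
    exact (h.symm.proj h1.1).unique ⟨hc.1, h1.2.symm⟩ ⟨hc'.1, h2.2.symm⟩
  · obtain ⟨c, hc, hc'⟩ := (h.symm.proj hd.1).exists
    exact ⟨c, ⟨hc, (hRS _ _ hc hd.1 hc'.symm).2 hd.2⟩,
      (h.proj hc).unique (h.proj hc).exists.choose_spec ⟨hd.1, hc'.symm⟩⟩

theorem Dist.val_eq {u v : X} (h : P.Dist u v m) : P.val u = P.val v := by
  simpa [val, nbr] using h.ncard_eq (R := fun _ => True) (S := fun _ => True) fun _ _ _ _ _ => Iff.rfl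

theorem val_odd (hm : Odd m) (u v : X) : P.val u = P.val v := by
  have h1 : P.val (P.x 0) = P.val (P.x m) := (P.apt_x.dist 0 (by ring)).val_eq
  have h2 : P.typ (P.x m) ≠ P.typ (P.x 0) := by
    rw [Ne, P.apt_x.typ_eq]; simpa using hm
  have key : ∀ u, P.val u = P.val (P.x 0) := fun u => by
    by_cases h : P.typ u = P.typ (P.x 0)
    · exact val_eq h
    · rw [h1]
      refine val_eq ?_
      revert h h2
      cases P.typ u <;> cases P.typ (P.x 0) <;> cases P.typ (P.x m) <;> simp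
  rw [key u, key v]

theorem Dist.fix_proj {u v c d : X} (h : P.Dist u v m) (hc : P.adj u c) (hd : P.adj v d)
    (hcd : P.Dist c d (m - 2)) {g : G} (hv : g • v = v) (hg : g • c = c) : g • d = d :=
  (h.proj hc).unique ⟨by simpa [hv] using P.adj_smul g hd, by simpa [hg] using hcd.smul g⟩ ⟨hd, hcd⟩

theorem Dist.mem_K {u v : X} (h : P.Dist u v m) {g : G} (hg : g ∈ P.K u) (hv : g • v = v) :
    g ∈ P.K v := ⟨hv, fun _ hd => by
  obtain ⟨c, hc, hc'⟩ := (h.symm.proj hd).exists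
  exact h.fix_proj hc hd hc'.symm hv (hg.2 c hc)⟩

/-- Opposite fixed vertices have the same number of fixed neighbours. -/
theorem Dist.ncard_fix {u v : X} (h : P.Dist u v m) {g : G} (hu : g • u = u) (hv : g • v = v) :
    {c | P.adj u c ∧ g • c = c}.ncard = {d | P.adj v d ∧ g • d = d}.ncard :=
  h.ncard_eq fun _ _ hc hd hcd =>
    ⟨h.fix_proj hc hd hcd hv, h.symm.fix_proj hd hc hcd.symm hu⟩

/-- Tits' rigidity theorem in rank two. -/
theorem rigid' {g : G} (hg : g ∈ P.H) (h0 : g ∈ P.K (P.x 0)) (h1 : g ∈ P.K (P.x 1)) (v : X) :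
    g • v = v := by
  have step : ∀ a b c, (P.adj a b ∧ g ∈ P.K a ∧ g ∈ P.K b ∧ (∃ w, P.Dist a w m ∧ g • w = w) ∧
      ∃ w, P.Dist b w m ∧ g • w = w) → P.adj b c → (P.adj b c ∧ g ∈ P.K b ∧ g ∈ P.K c ∧
      (∃ w, P.Dist b w m ∧ g • w = w) ∧ ∃ w, P.Dist c w m ∧ g • w = w) := by
    rintro a b c ⟨hab, ha, hb, -, w, hw, hw'⟩ hc
    obtain ⟨d1, h2, h3⟩ := (hw.proj (P.adj_symm hab)).exists
    obtain ⟨d2, h4, h5⟩ := (hw.proj hc).exists
    obtain ⟨d, h6, h7, h8⟩ := P.thick w d1 d2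
    have h9 := (hw.mem_K hb hw').2 d h6
    have h10 := hw.opp_of_ne hc h6 h4 h5 h8
    exact ⟨hc, hb, h10.symm.mem_K ((hw.opp_of_ne (P.adj_symm hab) h6 h2 h3 h7).mem_K ha h9)
      (hb.2 c hc), ⟨w, hw, hw'⟩, d, h10, h9⟩
  have key : ∃ a, P.adj a v ∧ g ∈ P.K a ∧ g ∈ P.K v ∧ (∃ w, P.Dist a w m ∧ g • w = w) ∧
      ∃ w, P.Dist v w m ∧ g • w = w := by
    have := P.conn v
    induction this with
    | refl => exact ⟨P.x 1, P.adj_symm (P.x_adj 0), h1, h0,
        ⟨P.x (m + 1), P.apt_x.dist _ (by ring), hg _⟩, P.x m, P.apt_x.dist _ (by ring), hg _⟩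
    | tail _ h ih =>
      obtain ⟨a, ha⟩ := ih
      exact ⟨_, step _ _ _ ha h⟩
  obtain ⟨-, -, -, h, -⟩ := key
  exact h.1

theorem rigid [FaithfulSMul G X] {g : G} (hg : g ∈ P.H) (h0 : g ∈ P.K (P.x 0))
    (h1 : g ∈ P.K (P.x 1)) : g = 1 :=
  eq_of_smul_eq_smul (α := X) fun v => by rw [rigid' hg h0 h1, one_smul]

/-- A set of elements of `B` normalised by groups transitive on both residues is trivial. -/
theorem eq_one_of_norm [FaithfulSMul G X] {S : Set G} (hS : ∀ s ∈ S, s ∈ P.B)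
    (h0 : ∀ c, P.adj (P.x 0) c → ∃ g : G, g • P.x 0 = P.x 0 ∧ g • c = P.x 1 ∧
      ∀ s, s ∈ S ↔ g * s * g⁻¹ ∈ S)
    (h1 : ∀ c, P.adj (P.x 1) c → ∃ g : G, g • P.x 1 = P.x 1 ∧ g • c = P.x 0 ∧
      ∀ s, s ∈ S ↔ g * s * g⁻¹ ∈ S) {s : G} (hs : s ∈ S) : s = 1 := by
  have key : ∀ v, ∃ t : G, (∀ s, s ∈ S → t * s * t⁻¹ ∈ S) ∧ (t • v = P.x 0 ∨ t • v = P.x 1) := by
    intro v
    have := P.conn v
    induction this with
    | refl => exact ⟨1, by simp, Or.inl (one_smul _ _)⟩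
    | tail _ h ih =>
      obtain ⟨t, ht, h2 | h2⟩ := ih
      · obtain ⟨g, -, h3, h4⟩ := h0 _ (h2 ▸ P.adj_smul t h)
        exact ⟨g * t, fun s hs => by simpa [mul_assoc] using (h4 _).1 (ht s hs),
          Or.inr (by rw [mul_smul, h3])⟩
      · obtain ⟨g, -, h3, h4⟩ := h1 _ (h2 ▸ P.adj_smul t h)
        exact ⟨g * t, fun s hs => by simpa [mul_assoc] using (h4 _).1 (ht s hs),
          Or.inl (by rw [mul_smul, h3])⟩
  refine eq_of_smul_eq_smul (α := X) fun v => ?_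
  obtain ⟨t, ht, h2⟩ := key v
  have h3 := hS _ (ht s hs)
  have h4 : (t * s * t⁻¹) • t • v = t • v := by
    rcases h2 with h2 | h2 <;> rw [h2]
    · exact h3.1
    · exact h3.2
  rw [mul_smul, mul_smul, inv_smul_smul] at h4
  rw [one_smul, smul_left_cancel t h4]

variable (P) in
/-- The pointwise stabiliser in `F` of `x a, …, x b`. -/
def FF (a b : ℤ) : Subgroup G where
  carrier := {g | g ∈ P.F ∧ ∀ i, a ≤ i → i ≤ b → g • P.x i = P.x i}
  mul_mem' := fun {g h} hg hh => ⟨mul_mem hg.1 hh.1, fun i hi hi' => by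
    rw [mul_smul, hh.2 i hi hi', hg.2 i hi hi']⟩
  one_mem' := ⟨one_mem _, fun _ _ _ => one_smul _ _⟩
  inv_mem' := fun {g} hg => ⟨inv_mem hg.1, fun i hi hi' => inv_smul_eq_iff.2 (hg.2 i hi hi').symm⟩

theorem mem_FF {g : G} : g ∈ P.FF a b ↔ g ∈ P.F ∧ ∀ i, a ≤ i → i ≤ b → g • P.x i = P.x i := Iff.rfl

theorem FF_zero_one : P.FF 0 1 = P.F := by
  ext g
  refine ⟨fun h => h.1, fun h => ⟨h, fun i hi hi' => ?_⟩⟩
  obtain rfl | rfl : i = 0 ∨ i = 1 := by omega
  · exact P.F_zero g h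
  · exact P.F_one g h

theorem FF_eq (h : a + m + 1 ≤ b) : P.FF a b = P.F ⊓ P.H := by
  ext g
  exact ⟨fun hg => ⟨hg.1, P.apt_x.fix (a := a) fun i hi hi' => hg.2 i hi (by omega)⟩,
    fun hg => ⟨hg.1, fun i _ _ => hg.2 i⟩⟩

theorem ncard_nbr_diff [Finite G] {u v : X} (h : P.adj u v) :
    (P.nbr u \ {v}).ncard = P.val u - 1 := by
  have := P.finite
  exact Set.ncard_sdiff_singleton_of_mem h

theorem card_FF_right [Finite G] (ha : a ≤ 0) (hb : 1 ≤ b) (hl : b - a ≤ m) :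
    Nat.card (P.FF a b) = (P.val (P.x b) - 1) * Nat.card (P.FF a (b + 1)) := by
  have h1 : P.adj (P.x b) (P.x (b - 1)) :=
    P.adj_symm ((P.apt_x.nb _ _).adj' (by ring) le_rfl le_rfl)
  rw [card_eq_of_orbit (P.FF a b) (P.x (b + 1)) (O := P.nbr (P.x b) \ {P.x (b - 1)}) fun c => ?_,
    ncard_nbr_diff h1]
  · congr 3
    ext g
    refine ⟨fun h => ⟨h.1.1, fun i hi hi' => ?_⟩, fun h =>
      ⟨⟨h.1, fun i hi hi' => h.2 i hi (by omega)⟩, h.2 _ (by omega) le_rfl⟩⟩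
    by_cases h2 : i = b + 1
    · exact h2 ▸ h.2
    · exact h.1.2 i hi (by omega)
  · constructor
    · rintro ⟨hc, hc'⟩
      obtain ⟨u, hu, h2, h3⟩ := tr_right ha hb hl hc hc'
      exact ⟨u⁻¹, inv_mem (s := P.FF a b) ⟨hu, h2⟩, inv_smul_eq_iff.2 h3.symm⟩
    · rintro ⟨s, hs, rfl⟩
      refine ⟨by simpa [mem_nbr, hs.2 b (by omega) le_rfl] using P.adj_smul s (P.x_adj b), fun h => ?_⟩
      rw [Set.mem_singleton_iff, ← hs.2 (b - 1) (by omega) (by omega)] at h
      exact (P.apt_x.nb _ _).ne' (i := b - 1) (j := b + 1) (by ring) le_rfl le_rfl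
        (smul_left_cancel s h).symm

theorem card_F [Finite G] : Nat.card P.F =
    Nat.card (P.F ⊓ P.H : Subgroup G) * ∏ i ∈ Finset.range m, (P.val (P.x i) - 1) := by
  have key : ∀ k : ℕ, k ≤ m → Nat.card P.F =
      Nat.card (P.FF 0 (k + 1)) * ∏ i ∈ Finset.range k, (P.val (P.x (i + 1 : ℕ)) - 1) := by
    intro k hk
    induction k with
    | zero => simp [FF_zero_one]
    | succ k ih =>
      rw [ih (by omega), card_FF_right le_rfl (by omega) (by omega), Finset.prod_range_succ]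
      push_cast
      ring
  rw [key m le_rfl, FF_eq (by omega)]
  congr 1
  have h1 := Finset.prod_range_succ' (fun i : ℕ => P.val (P.x i) - 1) m
  rw [Finset.prod_range_succ, ← (P.apt_x.dist 0 (j := m) (by ring)).val_eq] at h1
  have h2 := three_le_val (P := P) (P.x 0)
  rw [Nat.cast_zero] at h1
  exact (Nat.eq_of_mul_eq_mul_right (by omega) h1).symm

theorem exists_max [Finite G] (P : Poly G X m) : ∃ P' : Poly G X m, P'.adj = P.adj ∧ P'.x = P.x ∧
    P.F ≤ P'.F ∧ P'.Max := by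
  have h1 : ∀ U : Subgroup G, U ≤ P.B → (∀ g ∈ P.B, ∀ u ∈ U, g * u * g⁻¹ ∈ U) →
      Group.IsNilpotent U → U ≤ fittingOf P.B := fun U h1 h2 h3 =>
    GT.le_fittingOf h1 fun g hg => Subgroup.mem_normalizer_iff.2 fun u =>
      ⟨h2 g hg u, fun h => by simpa [mul_assoc] using h2 g⁻¹ (inv_mem hg) _ h⟩
  have h2 := h1 P.F P.F_le_B (fun g hg => P.F_norm g hg.1 hg.2) P.F_nil
  refine ⟨{ P with
    F := fittingOf P.B
    F_zero := fun u hu => (GT.fittingOf_le _ hu).1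
    F_one := fun u hu => (GT.fittingOf_le _ hu).2
    F_norm := fun g h0 h1 u hu => (Subgroup.mem_normalizer_iff.1
      (GT.le_normalizer_fittingOf P.B (show g ∈ P.B from ⟨h0, h1⟩)) u).1 hu
    F_nil := GT.isNilpotent_fittingOf _
    tr_pos := fun p hp h0 h1 => (P.tr_pos p hp h0 h1).imp fun u hu => ⟨h2 hu.1, hu.2⟩
    tr_neg := fun p hp h0 h1 => (P.tr_neg p hp h0 h1).imp fun u hu => ⟨h2 hu.1, hu.2⟩ },
    rfl, rfl, h2, h1⟩

end Poly

end Cfsg.Agent.SU
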