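import Mathlib
import Cfsg.Agent.OT.Wie
import Cfsg.Agent.GT.Conj
import Cfsg.Agent.GT.PGroupFrattini
import Cfsg.Agent.Loc.HSubgroup
import Cfsg.Agent.FT.Conj
import Cfsg.Agent.Loc.CardProd

/-! A group of order nine acting on a `2`-group, all its nontrivial elements being conjugate. -/

set_option autoImplicit false

namespace Cfsg.Agent.SU

open Subgroup

variable {G : Type*} [Group G] [Finite G] {N V : Subgroup G}

/-- `V` is elementary abelian of order nine, normalises `N`, and its nontrivial elements are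
conjugate in the normaliser of `N`. -/
structure Nine (V N : Subgroup G) : Prop where
  card : Nat.card V = 9
  cube : ∀ v ∈ V, v ^ 3 = 1
  comm : ∀ a ∈ V, ∀ b ∈ V, Commute a b
  le : V ≤ normalizer (N : Set G)
  tr : ∀ a ∈ V, ∀ b ∈ V, a ≠ 1 → b ≠ 1 → ∃ u ∈ normalizer (N : Set G), u * a * u⁻¹ = b

omit [Finite G] in
theorem Nine.mono (h : Nine V N) {N' : Subgroup G}
    (hle : normalizer (N : Set G) ≤ normalizer (N' : Set G)) : Nine V N' :=
  ⟨h.card, h.cube, h.comm, h.le.trans hle, fun a ha b hb a1 b1 =>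
    (h.tr a ha b hb a1 b1).imp fun _ k => ⟨hle k.1, k.2⟩⟩

theorem card_inf_cent_le {u a : G} (hu : u ∈ normalizer (N : Set G)) :
    Nat.card ↥(N ⊓ centralizer {a}) ≤ Nat.card ↥(N ⊓ centralizer {u * a * u⁻¹}) :=
  Nat.card_le_card_of_injective (fun n => ⟨u * n * u⁻¹, (mem_normalizer_iff.1 hu _).1 n.2.1,
    mem_centralizer_singleton_iff.2 (by
      have := mem_centralizer_singleton_iff.1 n.2.2
      simpa [mul_assoc] using congrArg (fun g => u * g * u⁻¹) this)⟩)
    fun x y e => Subtype.ext (by simpa using Subtype.mk.inj e)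

theorem Nine.wie (h : Nine V N) (hN : IsPGroup 2 N) :
    ∃ k, Nat.card N = 256 ^ k * Nat.card ↥(N ⊓ centralizer (V : Set G)) := by
  have := Fact.mk Nat.prime_three
  have := Fact.mk Nat.prime_two
  have o3 : ∀ v ∈ V, v ≠ 1 → orderOf v = 3 := fun v hv h1 => orderOf_eq_prime (h.cube v hv) h1
  obtain ⟨⟨a, ha⟩, a1⟩ := ne_bot_iff_exists_ne_one.1 (show V ≠ ⊥ from fun e => by
    have := h.card; rw [e, card_bot] at this; omega)
  replace a1 : a ≠ 1 := fun e => a1 (Subtype.ext e)
  obtain ⟨b, hb, nm⟩ : ∃ b ∈ V, b ∉ zpowers a := by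
    by_contra! k
    have := card_le_of_le (show V ≤ zpowers a from k)
    rw [h.card, Nat.card_zpowers, o3 a ha a1] at this
    omega
  have b1 : b ≠ 1 := fun e => nm (e ▸ one_mem _)
  have hE : zpowers a ⊔ zpowers b = V := eq_of_le_of_card_ge (sup_le (zpowers_le.2 ha) (zpowers_le.2 hb))
    (by rw [OT.card_zp_sup (o3 a ha a1) (o3 b hb b1) (h.comm a ha b hb) nm, h.card]; norm_num)
  have hC : centralizer ({a, b} : Set G) = centralizer (V : Set G) := by
    rw [← hE, zpowers_eq_closure, zpowers_eq_closure, ← Subgroup.closure_union, centralizer_closure]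
    rfl
  have eq : ∀ v ∈ V, v ≠ 1 → Nat.card ↥(N ⊓ centralizer {v}) = Nat.card ↥(N ⊓ centralizer {a}) :=
    fun v hv v1 => le_antisymm (by
      obtain ⟨u, hu, e⟩ := h.tr v hv a ha v1 a1
      exact e ▸ card_inf_cent_le hu) (by
      obtain ⟨u, hu, e⟩ := h.tr a ha v hv a1 v1
      exact e ▸ card_inf_cent_le hu)
  obtain ⟨n, hn⟩ := hN.exists_card_eq
  have := hN.isNilpotent
  have key := OT.wie_sq (o3 a ha a1) (o3 b hb b1) (h.comm a ha b hb) nm (h.le ha) (h.le hb)
    (fun e => absurd (Nat.prime_three.dvd_of_dvd_pow (hn ▸ e)) (by decide)) inferInstance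
  rw [hC, eq b hb b1, Finset.prod_congr rfl fun (i : ZMod 3) _ => eq _ (mul_mem ha (pow_mem hb i.val)) (by
    have := OT.orderOf_lg (o3 a ha a1) (o3 b hb b1) (h.comm a ha b hb) nm (some i)
    exact fun e => by rw [show OT.lg a b (some i) = 1 from e, orderOf_one] at this; omega),
    Finset.prod_const, Finset.card_univ, ZMod.card] at key
  have md := GT.card_modEq_card_inf_centralizer (L := N ⊓ centralizer {a}) (Q := V) (p := 3)
    (IsPGroup.of_card (n := 2) h.card) (fun v hv => mem_normalizer_fintype fun g hg =>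
      ⟨(mem_normalizer_iff.1 (h.le hv) g).1 hg.1, mem_centralizer_singleton_iff.2 (by
        have := ((h.comm v hv a ha).mul_left (mem_centralizer_singleton_iff.1 hg.2)).mul_left
          (h.comm v hv a ha).inv_left
        exact this.eq)⟩)
  rw [inf_assoc, inf_eq_right.2 (centralizer_le (Set.singleton_subset_iff.2 ha))] at md
  obtain ⟨c, hc⟩ := (hN.to_inf_left (K := centralizer {a})).exists_card_eq
  obtain ⟨d, hd⟩ := (hN.to_inf_left (K := centralizer (V : Set G))).exists_card_eq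
  have hdc : d ≤ c := by
    have := card_le_of_le (inf_le_inf_left N (centralizer_le (Set.singleton_subset_iff.2 ha) :
      centralizer (V : Set G) ≤ centralizer {a}))
    rwa [hc, hd, Nat.pow_le_pow_iff_right one_lt_two] at this
  obtain ⟨e, rfl⟩ := Nat.exists_eq_add_of_le hdc
  rw [hc, hd, hn, ← pow_mul, ← pow_mul, ← pow_add, ← pow_add] at key
  have k2 := Nat.pow_right_injective le_rfl key
  rw [hc, hd, pow_add] at md
  obtain ⟨k, rfl⟩ : Even e := by
    by_contra ho
    obtain ⟨k, rfl⟩ := Nat.not_even_iff_odd.1 ho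
    have h1 : 2 ^ d * 2 ^ (2 * k + 1) ≡ 2 ^ d * 1 [MOD 3] := by simpa using md
    have h2 := Nat.ModEq.cancel_left_of_coprime (by
      simpa using (Nat.coprime_two_right.2 (by decide : Odd 3)).pow_right d) h1
    have h3 : 2 ^ (2 * k + 1) ≡ 1 ^ k * 2 [MOD 3] := by
      rw [pow_succ, pow_mul]; exact Nat.ModEq.mul_right _ (Nat.ModEq.pow k (by decide))
    have := h3.symm.trans h2
    simp [Nat.ModEq] at this
  exact ⟨k, by rw [hn, hd, show 256 = 2 ^ 8 from rfl, ← pow_mul, ← pow_add]; congr 1; omega⟩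

theorem Nine.le_card (h : Nine V N) (hN : IsPGroup 2 N) (hc : ¬ N ≤ centralizer (V : Set G)) :
    256 * Nat.card ↥(N ⊓ centralizer (V : Set G)) ≤ Nat.card N := by
  obtain ⟨k, hk⟩ := h.wie hN
  rcases k with _ | k
  · rw [pow_zero, one_mul] at hk
    exact absurd (inf_eq_left.1 (eq_of_le_of_card_ge inf_le_left hk.le)) hc
  · rw [hk]
    exact Nat.mul_le_mul_right _ (Nat.le_self_pow (by omega) _)

theorem Nine.sq (h : Nine V N) (hN : IsPGroup 2 N) (hc : ¬ N ≤ centralizer (V : Set G))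
    (hlt : Nat.card N < 2 ^ 16) {t v : G} (ht : t ∈ N) (hv : v ∈ V) : Commute v (t * t) := by
  have := Fact.mk Nat.prime_two
  set Φ := (frattini N).map N.subtype with hΦ
  have hle : Φ ≤ N := map_subtype_le _
  have tΦ : t * t ∈ Φ := ⟨_, GT.PG.pow_mem_frattini hN ⟨t, ht⟩, by simp [pow_two]⟩
  by_contra hn
  have h1 := (h.mono (N' := Φ) (FT.normalizer_le_normalizer_frattiniOf N)).le_card (hN.to_le hle)
    fun k => hn (k tΦ v hv)
  obtain ⟨k, hk⟩ := h.wie hN
  set C := N ⊓ centralizer (V : Set G)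
  have hlt' : Φ ⊔ C < N := Loc.frattini_sup_lt (lt_of_le_of_ne inf_le_left fun e => hc (inf_eq_left.1 e))
  have h2 : Nat.card ↥(Φ ⊔ C) < Nat.card N := by
    refine lt_of_le_of_ne (card_le_of_le hlt'.le) fun e => hlt'.ne (eq_of_le_of_card_ge hlt'.le e.ge)
  have h3 : Nat.card Φ * Nat.card C ≤ Nat.card ↥(Φ ⊔ C) * Nat.card ↥(Φ ⊓ C) :=
    Loc.card_mul_card_le_card_sup_mul_card_inf Φ C
  have h4 : Φ ⊓ C = Φ ⊓ centralizer (V : Set G) := by rw [← inf_assoc, inf_eq_left.2 hle]
  rw [h4] at h3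
  have p1 : 0 < Nat.card ↥(Φ ⊓ centralizer (V : Set G)) := Nat.card_pos
  have p2 : 0 < Nat.card C := Nat.card_pos
  have h5 : 256 * Nat.card C < Nat.card N := by
    refine lt_of_mul_lt_mul_right ?_ (Nat.zero_le (Nat.card ↥(Φ ⊓ centralizer (V : Set G))))
    calc _ = 256 * Nat.card ↥(Φ ⊓ centralizer (V : Set G)) * Nat.card C := by ring
      _ ≤ _ := (Nat.mul_le_mul_right _ h1).trans h3
      _ < _ := Nat.mul_lt_mul_of_pos_right h2 p1
  rcases k with _ | _ | k
  · omega
  · omega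
  · have : 256 ^ 2 ≤ 256 ^ (k + 2) := Nat.pow_le_pow_right (by norm_num) (by omega)
    nlinarith

end Cfsg.Agent.SU
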