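import Cfsg.Agent.SU.Defs

/-! Walks and apartments in a generalized polygon. -/

set_option autoImplicit false

namespace Cfsg.Agent.SU

section
variable {X : Type*} {adj : X → X → Prop} {p q : ℤ → X} {a b : ℤ}

theorem NB.mono (h : NB adj p a b) {a' b' : ℤ} (ha : a ≤ a') (hb : b' ≤ b) : NB adj p a' b' :=
  ⟨fun i hi hi' => h.1 i (by omega) (by omega), fun i hi hi' => h.2 i (by omega) (by omega)⟩

theorem NB.shift (h : NB adj p a b) (c : ℤ) : NB adj (fun i => p (i + c)) (a - c) (b - c) :=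
  ⟨fun i hi hi' => by
    have := h.1 (i + c) (by omega) (by omega)
    rwa [show i + c + 1 = i + 1 + c by ring] at this, fun i hi hi' => by
    have := h.2 (i + c) (by omega) (by omega)
    rwa [show i + c + 2 = i + 2 + c by ring] at this⟩

theorem NB.congr (h : NB adj p a b) (hq : ∀ i, a ≤ i → i ≤ b → q i = p i) : NB adj q a b :=
  ⟨fun i hi hi' => by
    rw [hq i hi (by omega), hq (i + 1) (by omega) (by omega)]; exact h.1 i hi hi',
   fun i hi hi' => by
    rw [hq i hi (by omega), hq (i + 2) (by omega) (by omega)]; exact h.2 i hi hi'⟩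

theorem NB.adj' (h : NB adj p a b) {i j : ℤ} (hij : j = i + 1) (hi : a ≤ i) (hj : j ≤ b) :
    adj (p i) (p j) := hij ▸ h.1 i hi (by omega)

theorem NB.ne' (h : NB adj p a b) {i j : ℤ} (hij : j = i + 2) (hi : a ≤ i) (hj : j ≤ b) :
    p i ≠ p j := hij ▸ h.2 i hi (by omega)

/-- gluing two walks -/
theorem NB.glue (hp : NB adj p a b) {c : ℤ} (hq : NB adj q b c) (h : p b = q b)
    (hne : a < b → b < c → p (b - 1) ≠ q (b + 1)) :
    NB adj (fun i => if i ≤ b then p i else q i) a c := by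
  refine ⟨fun i hi hi' => ?_, fun i hi hi' => ?_⟩
  · by_cases h1 : i < b
    · simp only [if_pos h1.le, if_pos (show i + 1 ≤ b by omega)]
      exact hp.1 i hi h1
    · by_cases h2 : i = b
      · subst h2
        simp only [le_refl, if_true, if_neg (show ¬ i + 1 ≤ i by omega), h]
        exact hq.1 i le_rfl hi'
      · simp only [if_neg (show ¬ i ≤ b by omega), if_neg (show ¬ i + 1 ≤ b by omega)]
        exact hq.1 i (by omega) hi'
  · by_cases h1 : i + 2 ≤ b
    · simp only [if_pos h1, if_pos (show i ≤ b by omega)]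
      exact hp.2 i hi h1
    · by_cases h2 : i + 1 = b
      · simp only [if_neg h1, if_pos (show i ≤ b by omega)]
        have := hne (by omega) (by omega)
        rwa [show b - 1 = i by omega, show b + 1 = i + 2 by omega] at this
      · by_cases h3 : i = b
        · subst h3
          simp only [le_refl, if_true, if_neg h1, h]
          exact hq.2 i le_rfl hi'
        · simp only [if_neg h1, if_neg (show ¬ i ≤ b by omega)]
          exact hq.2 i (by omega) hi'

end

namespace Poly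

variable {G X : Type*} [Group G] [MulAction G X] {m : ℕ} {P : Poly G X m} {p q y : ℤ → X} {a b : ℤ}

theorem adj_smul_iff {g : G} {u v : X} : P.adj (g • u) (g • v) ↔ P.adj u v :=
  ⟨fun h => by simpa using P.adj_smul g⁻¹ h, P.adj_smul g⟩

theorem nb_rev (h : NB P.adj p a b) (c : ℤ) : NB P.adj (fun i => p (c - i)) (c - b) (c - a) :=
  ⟨fun i hi hi' => P.adj_symm (h.adj' (by ring) (by omega) (by omega)),
    fun i hi hi' => (h.ne' (by ring) (by omega) (by omega)).symm⟩

theorem nb_smul (h : NB P.adj p a b) (g : G) : NB P.adj (fun i => g • p i) a b :=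
  ⟨fun i hi hi' => P.adj_smul g (h.1 i hi hi'),
    fun i hi hi' h' => h.2 i hi hi' (smul_left_cancel g h')⟩

theorem Apt.nb (h : P.Apt y) (a b : ℤ) : NB P.adj y a b := ⟨fun i _ _ => h.1 i, fun i _ _ => h.2.1 i⟩

theorem Apt.smul (h : P.Apt y) (g : G) : P.Apt fun i => g • y i :=
  ⟨fun i => P.adj_smul g (h.1 i), fun i h' => h.2.1 i (smul_left_cancel g h'),
    fun i => by simp only [h.2.2]⟩

theorem Apt.shift (h : P.Apt y) (c : ℤ) : P.Apt fun i => y (i + c) :=
  ⟨fun i => (h.nb _ _).adj' (by ring) le_rfl le_rfl, fun i => (h.nb _ _).ne' (by ring) le_rfl le_rfl,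
    fun i => by beta_reduce; rw [← h.2.2 (i + c)]; congr 1; ring⟩

theorem Apt.rev (h : P.Apt y) (c : ℤ) : P.Apt fun i => y (c - i) :=
  ⟨fun i => P.adj_symm ((h.nb _ _).adj' (by ring) le_rfl le_rfl),
    fun i => ((h.nb _ _).ne' (by ring) le_rfl le_rfl).symm,
    fun i => by beta_reduce; rw [← h.2.2 (c - (i + 2 * m))]; congr 1; ring⟩

theorem Apt.per (h : P.Apt y) (i k : ℤ) : y (i + 2 * m * k) = y i := by
  induction k using Int.induction_on with
  | zero => simp
  | succ k ih => rw [← ih, ← h.2.2 (i + 2 * m * k)]; congr 1; ring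
  | pred k ih => rw [← ih, ← h.2.2 (i + 2 * m * (-k - 1))]; congr 1; ring

theorem ne_of_nb (h : NB P.adj p a b) {i j : ℤ} (hi : a ≤ i) (hij : i < j) (hj : j ≤ b)
    (hl : j - i < 2 * m) : p i ≠ p j := by
  have := P.girth (fun k => p (k + i)) (j - i) (by omega) hl
    ((h.shift i).mono (by omega) (by omega))
  simpa using this

theorem typ_nb (h : NB P.adj p a b) {i j : ℤ} (hi : a ≤ i) (hi' : i ≤ b) (hj : a ≤ j) (hj' : j ≤ b) :
    P.typ (p i) = P.typ (p j) ↔ Even (i - j) := by
  have key : ∀ k : ℕ, a + k ≤ b → (P.typ (p (a + k)) = P.typ (p a) ↔ Even k) := by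
    intro k
    induction k with
    | zero => simp
    | succ k ih =>
      intro hk
      have h1 := P.typ_adj (h.adj' (i := a + k) (j := a + (k + 1 : ℕ)) (by push_cast; ring)
        (by omega) hk)
      have h2 := ih (by push_cast at hk; omega)
      rw [Nat.even_add_one, ← h2]
      revert h1
      cases P.typ (p (a + k)) <;> cases P.typ (p (a + (k + 1 : ℕ))) <;> cases P.typ (p a) <;> simp
  obtain ⟨k, rfl⟩ : ∃ k : ℕ, i = a + k := ⟨(i - a).toNat, by omega⟩
  obtain ⟨l, rfl⟩ : ∃ k : ℕ, j = a + k := ⟨(j - a).toNat, by omega⟩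
  have h1 := key k hi'
  have h2 := key l hj'
  rw [show a + k - (a + l) = (k : ℤ) - l by ring, Int.even_sub, Int.even_coe_nat, Int.even_coe_nat,
    ← h1, ← h2]
  cases P.typ (p (a + k)) <;> cases P.typ (p (a + l)) <;> cases P.typ (p a) <;> simp

theorem uniq (hp : NB P.adj p a b) {b' : ℤ} (hq : NB P.adj q a b') (hb : a ≤ b) (hb' : a ≤ b')
    (h0 : p a = q a) (h1 : p b = q b') (hl : (b - a) + (b' - a) < 2 * m) :
    b = b' ∧ ∀ i, a ≤ i → i ≤ b → p i = q i := by
  obtain ⟨n, hn⟩ : ∃ n : ℕ, b = a + n := ⟨(b - a).toNat, by omega⟩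
  induction n generalizing a with
  | zero =>
    have hb0 : b = a := by simpa using hn
    subst hb0
    by_cases h : b' = b
    · exact ⟨h.symm, fun i hi hi' => by rwa [show i = b by omega]⟩
    · exact absurd (h0.symm.trans h1) (ne_of_nb hq le_rfl (by omega) le_rfl (by omega))
  | succ n ih =>
    have hn' : b = a + 1 + n := by push_cast at hn; omega
    by_cases h : b' = a
    · subst h
      exact absurd (h0.trans h1.symm) (ne_of_nb hp le_rfl (by omega) le_rfl (by omega))
    by_cases h2 : p (a + 1) = q (a + 1)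
    · obtain ⟨h3, h4⟩ := ih (hp.mono (a' := a + 1) (by omega) le_rfl)
        (hq.mono (a' := a + 1) (by omega) le_rfl) (by omega) (by omega) h2 (by omega) hn'
      refine ⟨h3, fun i hi hi' => ?_⟩
      by_cases h5 : i = a
      · rw [h5, h0]
      · exact h4 i (by omega) hi'
    · have h3 := (nb_rev hp (2 * a)).glue (q := q) (c := b')
        (by rw [show 2 * a - a = a by ring]; exact hq)
        (by rw [show 2 * a - (2 * a - a) = a by ring, show 2 * a - a = a by ring, h0])
        (fun _ _ => by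
          rwa [show 2 * a - (2 * a - a - 1) = a + 1 by ring, show 2 * a - a + 1 = a + 1 by ring])
      refine absurd ?_ (ne_of_nb h3 le_rfl (show 2 * a - b < b' by omega) le_rfl (by omega))
      simp only [if_pos (show 2 * a - b ≤ 2 * a - a by omega),
        if_neg (show ¬ b' ≤ 2 * a - a by omega), show 2 * a - (2 * a - b) = b by ring, h1]

theorem fix_of_ends (hp : NB P.adj p a b) (hl : b - a < m) {g : G} (h0 : g • p a = p a)
    (h1 : g • p b = p b) (i : ℤ) (hi : a ≤ i) (hi' : i ≤ b) : g • p i = p i :=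
  (uniq (nb_smul hp g) hp (by omega) (by omega) h0 h1 (by omega)).2 i hi hi'

theorem nb_snoc (hp : NB P.adj p a b) (hab : a ≤ b) {c : X} (hc : P.adj (p b) c)
    (hc' : a < b → c ≠ p (b - 1)) : NB P.adj (Function.update p (b + 1) c) a (b + 1) := by
  refine ⟨fun i hi hi' => ?_, fun i hi hi' => ?_⟩
  · rw [Function.update_of_ne (by omega)]
    by_cases h : i = b
    · subst h; simpa using hc
    · rw [Function.update_of_ne (by omega)]; exact hp.1 i hi (by omega)
  · rw [Function.update_of_ne (by omega)]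
    by_cases h : i + 2 = b + 1
    · rw [h, Function.update_self, show i = b - 1 by omega]; exact (hc' (by omega)).symm
    · rw [Function.update_of_ne h]; exact hp.2 i hi (by omega)

theorem nb_cons (hp : NB P.adj p a b) (_hab : a ≤ b) {c : X} (hc : P.adj (p a) c)
    (hc' : a < b → c ≠ p (a + 1)) : NB P.adj (Function.update p (a - 1) c) (a - 1) b := by
  refine ⟨fun i hi hi' => ?_, fun i hi hi' => ?_⟩
  · rw [Function.update_of_ne (a := i + 1) (by omega)]
    by_cases h : i = a - 1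
    · subst h; simpa using P.adj_symm hc
    · rw [Function.update_of_ne h]; exact hp.1 i (by omega) hi'
  · rw [Function.update_of_ne (a := i + 2) (by omega)]
    by_cases h : i = a - 1
    · rw [h, Function.update_self, show a - 1 + 2 = a + 1 by omega]; exact hc' (by omega)
    · rw [Function.update_of_ne h]; exact hp.2 i (by omega) hi'

theorem exists_ext (hp : NB P.adj p a b) (hab : a ≤ b) {a' b' : ℤ} (ha : a' ≤ a) (hb : b ≤ b') :
    ∃ q, NB P.adj q a' b' ∧ ∀ i, a ≤ i → i ≤ b → q i = p i := by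
  have h1 : ∀ n : ℕ, ∃ q, NB P.adj q a (b + n) ∧ ∀ i, a ≤ i → i ≤ b → q i = p i := by
    intro n
    induction n with
    | zero => exact ⟨p, by simpa using hp, fun _ _ _ => rfl⟩
    | succ n ih =>
      obtain ⟨q, hq, hq'⟩ := ih
      obtain ⟨d, hd, hd', -⟩ := P.thick (q (b + n)) (q (b + n - 1)) (q (b + n - 1))
      refine ⟨_, by simpa [add_assoc] using nb_snoc hq (by omega) hd fun _ => hd', fun i hi hi' => ?_⟩
      rw [Function.update_of_ne (by omega), hq' i hi hi']
  obtain ⟨q, hq, hq'⟩ := h1 (b' - b).toNat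
  rw [show b + ((b' - b).toNat : ℤ) = b' by omega] at hq
  have h2 : ∀ n : ℕ, ∃ r, NB P.adj r (a - n) b' ∧ ∀ i, a ≤ i → i ≤ b → r i = p i := by
    intro n
    induction n with
    | zero => exact ⟨q, by simpa using hq, hq'⟩
    | succ n ih =>
      obtain ⟨r, hr, hr'⟩ := ih
      obtain ⟨d, hd, hd', -⟩ := P.thick (r (a - n)) (r (a - n + 1)) (r (a - n + 1))
      refine ⟨_, by simpa [sub_sub] using nb_cons hr (by omega) hd fun _ => hd', fun i hi hi' => ?_⟩
      rw [Function.update_of_ne (by omega), hr' i hi hi']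
  obtain ⟨r, hr, hr'⟩ := h2 (a - a').toNat
  rw [show a - ((a - a').toNat : ℤ) = a' by omega] at hr
  exact ⟨r, hr, hr'⟩

theorem typ_x_one : P.typ (P.x 1) ≠ P.typ (P.x 0) := (P.typ_adj (P.x_adj 0)).symm

theorem edge' {u v : X} (h : P.adj u v) :
    (∃ g : G, g • u = P.x 0 ∧ g • v = P.x 1) ∨ ∃ g : G, g • u = P.x 1 ∧ g • v = P.x 0 := by
  by_cases ht : P.typ u = P.typ (P.x 0)
  · exact Or.inl (P.edge h ht)
  · have h1 := P.typ_adj h
    obtain ⟨g, h2, h3⟩ := P.edge (P.adj_symm h) (by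
      revert h1 ht
      cases P.typ u <;> cases P.typ v <;> cases P.typ (P.x 0) <;> simp)
    exact Or.inr ⟨g, h3, h2⟩

theorem exists_apt (hp : NB P.adj p a b) (hab : a ≤ b) (hl : b - a ≤ m + 1) :
    ∃ y, P.Apt y ∧ ∀ i, a ≤ i → i ≤ b → y i = p i := by
  obtain ⟨q, hq, hq'⟩ := exists_ext hp hab le_rfl (show b ≤ a + m + 1 by omega)
  have hm := P.three_le
  rcases edge' (hq.1 a le_rfl (by omega)) with ⟨g, h0, h1⟩ | ⟨g, h0, h1⟩
  · obtain ⟨u, -, hu⟩ := P.tr_pos (fun i => g • q (i + a))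
      ((nb_smul (hq.shift a) g).mono (by omega) (by omega)) (by simpa using h0)
      (by simpa [add_comm] using h1)
    refine ⟨fun i => (u * g)⁻¹ • P.x (i + -a), (P.apt_x.shift _).smul _, fun i hi hi' => ?_⟩
    rw [inv_smul_eq_iff, ← hu (i + -a) (by omega) (by omega), mul_smul, ← hq' i hi hi']
    simp
  · obtain ⟨u, -, hu⟩ := P.tr_neg (fun i => g • q (a + 1 - i))
      ((nb_smul (nb_rev hq (a + 1)) g).mono (by omega) (by omega)) (by simpa using h1)
      (by simpa using h0)
    refine ⟨fun i => (u * g)⁻¹ • P.x (a + 1 - i), (P.apt_x.rev _).smul _, fun i hi hi' => ?_⟩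
    rw [inv_smul_eq_iff, ← hu (a + 1 - i) (by omega) (by omega), mul_smul, ← hq' i hi hi']
    simp

/-- Two apartments which agree on a walk of length `m + 1` are equal. -/
theorem Apt.ext' {z : ℤ → X} (hy : P.Apt y) (hz : P.Apt z)
    (h : ∀ i, a ≤ i → i ≤ a + m + 1 → y i = z i) (i : ℤ) : y i = z i := by
  have hm := P.three_le
  have h1 := (uniq (hy.nb (a + m + 1) (a + 2 * m)) (hz.nb (a + m + 1) (a + 2 * m)) (by omega)
    (by omega) (h _ (by omega) le_rfl) (by rw [hy.2.2, hz.2.2, h a le_rfl (by omega)])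
    (by omega)).2
  have hm0 : (0 : ℤ) < 2 * m := by omega
  have h2 : i = a + (i - a) % (2 * m) + 2 * m * ((i - a) / (2 * m)) := by
    have := Int.emod_add_mul_ediv (i - a) (2 * m)
    omega
  have h3 := Int.emod_nonneg (i - a) hm0.ne'
  have h4 := Int.emod_lt_of_pos (i - a) hm0
  rw [h2, hy.per, hz.per]
  by_cases h5 : (i - a) % (2 * m) ≤ m + 1
  · exact h _ (by omega) (by omega)
  · exact h1 _ (by omega) (by omega)

theorem Apt.tr (hy : P.Apt y) (h0 : y 0 = P.x 0) (h1 : y 1 = P.x 1) :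
    ∃ u ∈ P.F, ∀ i, u • y i = P.x i := by
  obtain ⟨u, hu, h⟩ := P.tr_pos y (hy.nb _ _) h0 h1
  exact ⟨u, hu, (hy.smul u).ext' (a := 0) P.apt_x fun i hi hi' => h i hi (by omega)⟩

/-- `F` is transitive on walks of length at most `m + 1` through the flag. -/
theorem tr (hp : NB P.adj p a b) (ha : a ≤ 0) (hb : 1 ≤ b) (hl : b - a ≤ m + 1)
    (h0 : p 0 = P.x 0) (h1 : p 1 = P.x 1) :
    ∃ u ∈ P.F, ∀ i, a ≤ i → i ≤ b → u • p i = P.x i := by
  obtain ⟨y, hy, hy'⟩ := exists_apt hp (by omega) hl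
  obtain ⟨u, hu, h⟩ := hy.tr (by rw [hy' 0 ha (by omega), h0]) (by rw [hy' 1 (by omega) hb, h1])
  exact ⟨u, hu, fun i hi hi' => by rw [← hy' i hi hi', h]⟩

/-- One step of `tr`: the stabiliser of `x a, …, x b` in `F` is transitive on the neighbours of
`x b` other than `x (b - 1)`. -/
theorem tr_right (ha : a ≤ 0) (hb : 1 ≤ b) (hl : b - a ≤ m) {c : X} (hc : P.adj (P.x b) c)
    (hc' : c ≠ P.x (b - 1)) :
    ∃ u ∈ P.F, (∀ i, a ≤ i → i ≤ b → u • P.x i = P.x i) ∧ u • c = P.x (b + 1) := by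
  obtain ⟨u, hu, h⟩ := tr (nb_snoc (P.apt_x.nb a b) (by omega) hc fun _ => hc') ha (by omega)
    (by omega) (Function.update_of_ne (by omega) _ _) (Function.update_of_ne (by omega) _ _)
  refine ⟨u, hu, fun i hi hi' => ?_, by simpa using h (b + 1) (by omega) le_rfl⟩
  have := h i hi (by omega)
  rwa [Function.update_of_ne (by omega)] at this

theorem tr_left (ha : a ≤ 0) (hb : 1 ≤ b) (hl : b - a ≤ m) {c : X} (hc : P.adj (P.x a) c)
    (hc' : c ≠ P.x (a + 1)) :
    ∃ u ∈ P.F, (∀ i, a ≤ i → i ≤ b → u • P.x i = P.x i) ∧ u • c = P.x (a - 1) := by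
  obtain ⟨u, hu, h⟩ := tr (nb_cons (P.apt_x.nb a b) (by omega) hc fun _ => hc') (by omega) hb
    (by omega) (Function.update_of_ne (by omega) _ _) (Function.update_of_ne (by omega) _ _)
  refine ⟨u, hu, fun i hi hi' => ?_, by simpa using h (a - 1) le_rfl (by omega)⟩
  have := h i (by omega) hi'
  rwa [Function.update_of_ne (by omega)] at this

theorem Apt.conj (hy : P.Apt y) (ht : P.typ (y 0) = P.typ (P.x 0)) :
    ∃ g : G, ∀ i, g • y i = P.x i := by
  obtain ⟨g, h0, h1⟩ := P.edge (hy.1 0) ht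
  obtain ⟨u, -, h⟩ := (hy.smul g).tr h0 (by simpa using h1)
  exact ⟨u * g, fun i => by rw [mul_smul, h]⟩

/-- An element fixing a walk of length `m + 1` of an apartment fixes the apartment. -/
theorem Apt.fix (hy : P.Apt y) {g : G} (h : ∀ i, a ≤ i → i ≤ a + m + 1 → g • y i = y i) (i : ℤ) :
    g • y i = y i := (hy.smul g).ext' hy h i

theorem Apt.typ_eq (hy : P.Apt y) (i j : ℤ) : P.typ (y i) = P.typ (y j) ↔ Even (i - j) :=
  typ_nb (hy.nb (min i j) (max i j)) (min_le_left _ _) (le_max_left _ _) (min_le_right _ _)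
    (le_max_right _ _)

/-- translation by `2 k` and reflections of the standard apartment -/
theorem exists_shift (k : ℤ) : ∃ g : G, ∀ i, g • P.x i = P.x (i + 2 * k) := by
  obtain ⟨g, hg⟩ := (P.apt_x.shift (2 * k)).conj ((P.apt_x.typ_eq _ _).2 (by simp))
  exact ⟨g⁻¹, fun i => inv_smul_eq_iff.2 (hg i).symm⟩

theorem exists_refl (k : ℤ) : ∃ g : G, ∀ i, g • P.x i = P.x (2 * k - i) := by
  obtain ⟨g, hg⟩ := (P.apt_x.rev (2 * k)).conj ((P.apt_x.typ_eq _ _).2 (by simp))
  exact ⟨g⁻¹, fun i => inv_smul_eq_iff.2 (hg i).symm⟩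

end Poly

end Cfsg.Agent.SU
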